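import Cfsg.Agent.Class.Wall.Exist

/-!
# Unipotent isometries of quadratic spaces in characteristic two: basic identities

`St B Q t`: `Q` is a quadratic form with polar form `B` in characteristic two, invariant under
`1 + t`.
-/

set_option autoImplicit false

namespace Cfsg.Agent.Class.Char2

open Module
open Cfsg.Agent.KSG (pow_apply_eq_zero_of_le)

variable {F V : Type*} [Field F] [AddCommGroup V] [Module F V]

/-- `Q` is a quadratic form with polar form `B`, in characteristic two, invariant under `1 + t`. -/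
structure St (B : LinearMap.BilinForm F V) (Q : V → F) (t : End F V) : Prop where
  two : (2 : F) = 0
  add : ∀ x y, Q (x + y) = Q x + Q y + B x y
  smul : ∀ (c : F) x, Q (c • x) = c * c * Q x
  inv : ∀ x, Q (t x) = B (t x) x

/-- `t`-invariant subspaces killed by `t ^ (n + 1)`. -/
structure Nil (t : End F V) (n : ℕ) (S : Submodule F V) : Prop where
  mem : ∀ v ∈ S, t v ∈ S
  zero : ∀ v ∈ S, (t ^ (n + 1)) v = 0

variable {B : LinearMap.BilinForm F V} {Q : V → F} {t : End F V} {n : ℕ} {S U P : Submodule F V}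

theorem pow_pow (t : End F V) (a b : ℕ) (x : V) : (t ^ a) ((t ^ b) x) = (t ^ (a + b)) x := by
  rw [pow_add, End.mul_apply]

theorem pow_t (t : End F V) (a : ℕ) (x : V) : (t ^ a) (t x) = (t ^ (a + 1)) x := by
  rw [pow_succ, End.mul_apply]

theorem t_pow (t : End F V) (a : ℕ) (x : V) : t ((t ^ a) x) = (t ^ (a + 1)) x := by
  rw [pow_succ', End.mul_apply]

theorem pow_mem' (h : ∀ v ∈ S, t v ∈ S) (j : ℕ) {v : V} (hv : v ∈ S) : (t ^ j) v ∈ S := by
  induction j with
  | zero => exact hv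
  | succ j ih => exact t_pow t j v ▸ h _ ih

theorem Nil.pow_mem (h : Nil t n S) (j : ℕ) {v : V} (hv : v ∈ S) : (t ^ j) v ∈ S :=
  pow_mem' h.mem j hv

theorem Nil.of_le (h : Nil t n P) (hS : S ≤ P) (hm : ∀ v ∈ S, t v ∈ S) : Nil t n S :=
  ⟨hm, fun v hv => h.zero v (hS hv)⟩

namespace St

theorem zero (h : St B Q t) : Q 0 = 0 := by simpa using h.smul 0 0

theorem symm (h : St B Q t) (x y : V) : B x y = B y x := by
  linear_combination h.add y x - h.add x y + congrArg Q (add_comm x y)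

theorem alt (h : St B Q t) (x : V) : B x x = 0 := by
  have := h.smul 2 x
  rw [two_smul, h.add, h.two] at this
  linear_combination this - Q x * h.two

theorem isRefl (h : St B Q t) : B.IsRefl := fun x y e => (h.symm y x).trans e

theorem inv₂ (h : St B Q t) (x y : V) : B (t x) y = B x (t y) + B (t x) (t y) := by
  have := h.inv (x + y)
  rw [map_add, h.add, h.inv, h.inv] at this
  simp only [map_add, LinearMap.add_apply] at this
  linear_combination -this - h.symm x (t y) - B (t y) x * h.two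

theorem pow_zero' (h : St B Q t) (a : ℕ) (x : V) {z : V} (hz : (t ^ a) z = 0) :
    B ((t ^ a) x) z = 0 := by
  induction a generalizing x z with
  | zero => simp [show z = 0 from hz]
  | succ a ih =>
    rw [← pow_t] at hz
    rw [← t_pow, h.inv₂, ih _ hz, t_pow, ← pow_t, ih _ hz, add_zero]

theorem pow_top (h : St B Q t) (a : ℕ) (x : V) {z : V} (hz : (t ^ (a + 1)) z = 0) :
    B ((t ^ a) x) z = B x ((t ^ a) z) := by
  induction a generalizing z with
  | zero => rfl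
  | succ a ih =>
    rw [← pow_t] at hz
    rw [← t_pow, h.inv₂, ih hz, t_pow, h.pow_zero' _ _ hz, add_zero, pow_t]

theorem zero_of_lt (h : St B Q t) {z : V} (hz : (t ^ (n + 1)) z = 0) {a b : ℕ} (hab : n < a + b)
    (x : V) : B ((t ^ a) x) ((t ^ b) z) = 0 :=
  h.pow_zero' a x (by rw [pow_pow]; exact pow_apply_eq_zero_of_le hab hz)

theorem top_of_eq (h : St B Q t) {z : V} (hz : (t ^ (n + 1)) z = 0) {a b : ℕ} (hab : a + b = n)
    (x : V) : B ((t ^ a) x) ((t ^ b) z) = B ((t ^ n) x) z := by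
  rw [h.pow_top a x (by rw [pow_pow, add_right_comm, hab, hz]), pow_pow, hab, h.pow_top n x hz]

theorem top_symm (h : St B Q t) {z : V} (hz : (t ^ (n + 1)) z = 0) (x : V) :
    B ((t ^ n) z) x = B ((t ^ n) x) z := by
  rw [h.pow_top n x hz, h.symm]

theorem top_add (h : St B Q t) {y w : V} (hy : (t ^ (n + 1)) y = 0) (hw : (t ^ (n + 1)) w = 0)
    (x v : V) : B ((t ^ n) (x + t v)) (y + t w) = B ((t ^ n) x) y := by
  have h1 := h.zero_of_lt hw (a := n) (b := 1) n.lt_succ_self (x + t v)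
  have h2 := h.zero_of_lt hy (a := n + 1) (b := 0) n.lt_succ_self v
  rw [pow_one] at h1
  rw [map_add (B _), h1, map_add, pow_t, map_add, LinearMap.add_apply, add_zero]
  exact add_eq_left.2 h2

theorem Q_succ (h : St B Q t) (j : ℕ) (x : V) :
    Q ((t ^ (j + 1)) x) = B ((t ^ (j + 1)) x) ((t ^ j) x) := by
  rw [← t_pow, h.inv]

theorem Q_zero (h : St B Q t) {z : V} (hz : (t ^ (n + 1)) z = 0) {i : ℕ} (hi : n + 1 < 2 * i) :
    Q ((t ^ i) z) = 0 := by
  obtain ⟨j, rfl⟩ := Nat.exists_eq_add_one_of_ne_zero (show i ≠ 0 by omega)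
  rw [h.Q_succ, h.zero_of_lt hz (by omega)]

theorem Q_top (h : St B Q t) {z : V} {k : ℕ} (hz : (t ^ (2 * k + 1 + 1)) z = 0) :
    Q ((t ^ (k + 1)) z) = B ((t ^ (2 * k + 1)) z) z := by
  rw [h.Q_succ, h.top_of_eq hz (by omega)]

theorem top_even (h : St B Q t) {z : V} {k : ℕ} (hz : (t ^ (2 * k + 1)) z = 0) :
    B ((t ^ (2 * k)) z) z = 0 := by
  rw [← h.top_of_eq hz (two_mul k).symm, h.alt]

theorem Q_zero' (h : St B Q t) {z : V} (hz : (t ^ (n + 1)) z = 0) (h0 : B ((t ^ n) z) z = 0) {i : ℕ}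
    (hi : n < 2 * i) : Q ((t ^ i) z) = 0 := by
  rcases (Nat.succ_le_of_lt hi).lt_or_eq with e | e
  · exact h.Q_zero hz e
  · obtain ⟨j, rfl⟩ := Nat.exists_eq_add_one_of_ne_zero (show i ≠ 0 by omega)
    obtain rfl : n = 2 * j + 1 := by omega
    rw [h.Q_top hz, h0]

theorem Q_add_smul (h : St B Q t) (j : ℕ) (x z : V) (c : F) : Q ((t ^ j) (x + c • z)) =
    Q ((t ^ j) x) + c * c * Q ((t ^ j) z) + c * B ((t ^ j) x) ((t ^ j) z) := by
  rw [map_add, map_smul, h.add, h.smul, map_smul, smul_eq_mul]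

theorem Q_add_t (h : St B Q t) {v : V} (hv : (t ^ (n + 1)) v = 0) {j : ℕ} (hj : n ≤ 2 * j) (y : V) :
    Q ((t ^ j) (y + t v)) = Q ((t ^ j) y) := by
  rw [map_add, h.add, pow_t, h.Q_zero hv (by omega), h.zero_of_lt hv (by omega), add_zero, add_zero]

theorem perp_mem (h : St B Q t) (hS : Nil t n S) {w : V} (hw : w ∈ perp B S) : t w ∈ perp B S := by
  intro u hu
  have key : ∀ j, B ((t ^ j) u) (t w) = B u (t w) := fun j => by
    induction j with
    | zero => rfl
    | succ j ih =>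
      have := h.inv₂ ((t ^ j) u) w
      rw [t_pow, hw _ (hS.pow_mem _ hu), ih] at this
      linear_combination -this - B u (t w) * h.two
  exact (key (n + 1)).symm.trans (by rw [hS.zero u hu]; simp)

/-- Adjusting the products with a cyclic subspace. -/
theorem exists_B_eq (h : St B Q t) (hS : Nil t n S) {x y : V} (hy : y ∈ S)
    (hxy : B ((t ^ n) x) y = 1) (w : V) : ∃ v ∈ S, ∀ j < n, B ((t ^ j) x) (w + t v) = 0 := by
  suffices H : ∀ d i, i + d = n → ∃ v ∈ S, ∀ j, i ≤ j → j < n → B ((t ^ j) x) (w + t v) = 0 from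
    (H n 0 (zero_add n)).imp fun v hv => ⟨hv.1, fun j => hv.2 j j.zero_le⟩
  intro d
  induction d with
  | zero => exact fun i hi => ⟨0, S.zero_mem, fun j h1 h2 => by omega⟩
  | succ d ih =>
    intro i hi
    obtain ⟨v, hv, h1⟩ := ih (i + 1) (by omega)
    refine ⟨v + B ((t ^ i) x) (w + t v) • (t ^ d) y, S.add_mem hv (S.smul_mem _ (hS.pow_mem _ hy)),
      fun j h2 h3 => ?_⟩
    rw [map_add t, ← add_assoc, map_add, map_smul, map_smul, t_pow, smul_eq_mul]
    rcases h2.eq_or_lt with rfl | h2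
    · rw [h.top_of_eq (hS.zero y hy) hi, hxy]
      linear_combination B ((t ^ i) x) (w + t v) * h.two
    · rw [h1 j h2 h3, h.zero_of_lt (hS.zero y hy) (by omega), mul_zero, add_zero]

/-- Adjusting the values of `Q` on a cyclic subspace. -/
theorem exists_Q_eq (h : St B Q t) (hS : Nil t n S) {x z : V} (hz : z ∈ S)
    (hxz : B ((t ^ n) x) z = 1) {J : ℕ} (hJ : 2 * J ≤ n + 1)
    (h0 : ∀ i, n < i + J → Q ((t ^ i) z) = 0) :
    ∃ v ∈ S, ∀ j, Q ((t ^ j) (x + t v)) = if j < J then 0 else Q ((t ^ j) x) := by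
  suffices H : ∀ d i, i + d = J → ∃ v ∈ S, ∀ j, i ≤ j →
      Q ((t ^ j) (x + t v)) = if j < J then 0 else Q ((t ^ j) x) from
    (H J 0 (zero_add J)).imp fun v hv => ⟨hv.1, fun j => hv.2 j j.zero_le⟩
  intro d
  induction d with
  | zero => exact fun i hi => ⟨0, S.zero_mem, fun j h1 => by rw [if_neg (by omega)]; simp⟩
  | succ d ih =>
    intro i hi
    obtain ⟨v, hv, h1⟩ := ih (i + 1) (by omega)
    obtain ⟨a, ha⟩ : ∃ a, i + (i + (a + 1)) = n := ⟨n - 2 * i - 1, by omega⟩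
    refine ⟨v + Q ((t ^ i) (x + t v)) • (t ^ a) z, S.add_mem hv (S.smul_mem _ (hS.pow_mem _ hz)),
      fun j h2 => ?_⟩
    rw [map_add t, ← add_assoc, map_smul, h.Q_add_smul, t_pow, pow_pow, h0 _ (by omega), mul_zero,
      add_zero]
    rcases h2.eq_or_lt with rfl | h2
    · have := h.top_add (hS.zero z hz) (map_zero _) x v
      rw [map_zero, add_zero] at this
      rw [h.top_of_eq (hS.zero z hz) ha, this, hxz, if_pos (by omega)]
      linear_combination Q ((t ^ i) (x + t v)) * h.two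
    · rw [h1 j h2, h.zero_of_lt (hS.zero z hz) (by omega), mul_zero, add_zero]

end St

/-! ### Cyclic subspaces -/

/-- The cyclic subspace generated by `x`. -/
def gen (t : End F V) (x : V) : Submodule F V := Submodule.span F (Set.range fun j : ℕ => (t ^ j) x)

theorem pow_mem_gen (j : ℕ) (x : V) : (t ^ j) x ∈ gen t x := Submodule.subset_span ⟨j, rfl⟩

theorem mem_gen (x : V) : x ∈ gen t x := pow_mem_gen 0 x

theorem gen_le {x : V} (h : ∀ v ∈ S, t v ∈ S) (hx : x ∈ S) : gen t x ≤ S :=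
  Submodule.span_le.2 (by rintro _ ⟨j, rfl⟩; exact pow_mem' h j hx)

theorem t_mem_gen (x : V) : ∀ v ∈ gen t x, t v ∈ gen t x := fun _ hv =>
  (Submodule.span_le (p := (gen t x).comap t)).2
    (by rintro _ ⟨j, rfl⟩; exact Submodule.mem_comap.2 (t_pow t j x ▸ pow_mem_gen _ x)) hv

theorem nil_gen {x : V} (hx : (t ^ (n + 1)) x = 0) : Nil t n (gen t x) :=
  ⟨t_mem_gen x, fun _ hv => gen_le (S := LinearMap.ker (t ^ (n + 1))) (fun v hv => by
    rw [LinearMap.mem_ker, pow_t, ← t_pow, hv, map_zero]) hx hv⟩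

theorem Nil.sup (h : Nil t n S) (h' : Nil t n U) : Nil t n (S ⊔ U) :=
  ⟨fun _ hv => by
    obtain ⟨a, ha, b, hb, rfl⟩ := Submodule.mem_sup.1 hv
    exact map_add t a b ▸ Submodule.add_mem_sup (h.mem a ha) (h'.mem b hb), fun _ hv => by
    obtain ⟨a, ha, b, hb, rfl⟩ := Submodule.mem_sup.1 hv
    rw [map_add, h.zero a ha, h'.zero b hb, add_zero]⟩

theorem mem_perp_gen {x w : V} : w ∈ perp B (gen t x) ↔ ∀ j, B ((t ^ j) x) w = 0 :=
  ⟨fun h j => h _ (pow_mem_gen j x), fun h _ hv => (Submodule.span_le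
    (p := LinearMap.ker (B.flip w))).2 (by rintro _ ⟨j, rfl⟩; exact h j) hv⟩

theorem exists_of_mem_gen {x v : V} (hv : v ∈ gen t x) : ∃ c : F, ∃ w ∈ gen t x, v = c • x + t w := by
  induction hv using Submodule.span_induction with
  | mem v hv =>
    obtain ⟨_ | j, rfl⟩ := hv
    exacts [⟨1, 0, zero_mem _, by simp⟩, ⟨0, _, pow_mem_gen j x, by simp [t_pow]⟩]
  | zero => exact ⟨0, 0, zero_mem _, by simp⟩
  | add a b _ _ ha hb =>
    obtain ⟨c, w, hw, rfl⟩ := ha
    obtain ⟨d, z, hz, rfl⟩ := hb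
    exact ⟨c + d, w + z, add_mem hw hz, by rw [map_add]; module⟩
  | smul a b _ hb =>
    obtain ⟨c, w, hw, rfl⟩ := hb
    exact ⟨a * c, a • w, Submodule.smul_mem _ _ hw, by rw [map_smul]; module⟩

theorem map_gen {V' : Type*} [AddCommGroup V'] [Module F V'] {t' : End F V'} (f : V →ₗ[F] V')
    (hf : ∀ v, f (t v) = t' (f v)) (x : V) : (gen t x).map f = gen t' (f x) := by
  have : ∀ j, f ((t ^ j) x) = (t' ^ j) (f x) := fun j => by
    induction j with
    | zero => rfl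
    | succ j ih => rw [← t_pow, hf, ih, t_pow]
  rw [gen, Submodule.map_span, ← Set.range_comp]
  exact congrArg _ (congrArg _ (funext this))

/-- Normalisation of a pair of vectors. -/
theorem St.exists_pair (h : St B Q t) (hP : Nil t n P) {x y : V} (hx : x ∈ P) (hy : y ∈ P)
    (hxy : B ((t ^ n) x) y = 1) (hxx : B ((t ^ n) x) x = 0) (hyy : B ((t ^ n) y) y = 0) :
    ∃ x' ∈ P, ∃ y' ∈ P, (∀ j, Q ((t ^ j) x') = if 2 * j = n then Q ((t ^ j) x) else 0) ∧
      (∀ j, Q ((t ^ j) y') = if 2 * j = n then Q ((t ^ j) y) else 0) ∧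
      ∀ j, B ((t ^ j) x') y' = if j = n then 1 else 0 := by
  have hz := hP.zero
  have k : ∀ z ∈ P, B ((t ^ n) z) z = 0 → ∀ i, n < i + (n + 1) / 2 → Q ((t ^ i) z) = 0 :=
    fun z h1 h2 i hi => h.Q_zero' (hz z h1) h2 (by omega)
  have k' : ∀ z ∈ P, B ((t ^ n) z) z = 0 → ∀ j, (if j < (n + 1) / 2 then 0 else Q ((t ^ j) z)) =
      if 2 * j = n then Q ((t ^ j) z) else 0 := fun z h1 h2 j => by
    split_ifs <;> first | rfl | omega | exact h.Q_zero' (hz z h1) h2 (by omega)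
  obtain ⟨v, hv, h1⟩ := h.exists_Q_eq hP hy hxy (J := (n + 1) / 2) (by omega) (k y hy hyy)
  have hx' := P.add_mem hx (hP.mem v hv)
  have e : ∀ y ∈ P, ∀ w ∈ P, B ((t ^ n) (x + t v)) (y + t w) = B ((t ^ n) x) y := fun y hy w hw =>
    h.top_add (hz y hy) (hz w hw) x v
  have e1 : B ((t ^ n) (x + t v)) y = 1 := by simpa [hxy] using e y hy 0 P.zero_mem
  obtain ⟨v₁, hv₁, h2⟩ := h.exists_B_eq hP hy e1 y
  obtain ⟨v₂, hv₂, h3⟩ := h.exists_B_eq hP hy e1 (x + t v)
  have e2 : x + t v + t v₂ = x + t (v + v₂) := by rw [map_add, add_assoc]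
  have hv₃ := P.add_mem hv hv₂
  have hS : Nil t n (P ⊓ perp B (gen t (x + t v))) := hP.of_le inf_le_left fun w hw =>
    ⟨hP.mem w hw.1, h.perp_mem (nil_gen (hz _ hx')) hw.2⟩
  have hz₂ := P.add_mem hx (hP.mem _ hv₃)
  obtain ⟨v₃, hv₄, h4⟩ := h.exists_Q_eq hS (z := x + t (v + v₂)) (x := y + t v₁)
    ⟨hz₂, mem_perp_gen.2 fun j => by
      rcases lt_trichotomy j n with hj | rfl | hj
      · exact e2 ▸ h3 j hj
      · rw [e x hx _ hv₃, hxx]
      · simp [pow_apply_eq_zero_of_le hj (hz _ hx')]⟩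
    (by rw [h.top_add (hz x hx) (hz _ hv₃), h.top_symm (hz y hy), hxy]) (J := (n + 1) / 2) (by omega)
    (k _ hz₂ (by rw [h.top_add (hz x hx) (hz _ hv₃), hxx]))
  refine ⟨_, hx', _, P.add_mem (P.add_mem hy (hP.mem _ hv₁)) (hP.mem _ hv₄.1),
    fun j => (h1 j).trans (k' x hx hxx j), fun j => ?_, fun j => ?_⟩
  · rw [h4, ← k' y hy hyy]
    exact ite_congr rfl (fun _ => rfl) fun hj => h.Q_add_t (hz _ hv₁) (by omega) y
  · rw [map_add, mem_perp_gen.1 (hS.mem _ hv₄).2, add_zero]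
    rcases lt_trichotomy j n with hj | rfl | hj
    · rw [h2 j hj, if_neg hj.ne]
    · rw [e y hy _ hv₁, hxy, if_pos rfl]
    · simp [pow_apply_eq_zero_of_le hj (hz _ hx'), hj.ne']

end Cfsg.Agent.Class.Char2
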