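import Cfsg.Agent.Class.Char2.Basic
import Cfsg.Agent.Class.SymmCharTwo

/-!
# Blocks of unipotent isometries in characteristic two
-/

set_option autoImplicit false

namespace Cfsg.Agent.Class.Char2

open Module
open Cfsg.Agent.KSG (pow_apply_eq_zero_of_le)

variable {F V E : Type*} [Field F] [AddCommGroup V] [Module F V] [AddCommGroup E] [Module F E]
  {B : LinearMap.BilinForm F V} {Q : V → F} {t : End F V} {n : ℕ} {S U P : Submodule F V}
  {φ : E →ₗ[F] V} {α : F}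

/-- `U` is freely generated by the image of `φ`, with non-degenerate top form. -/
structure Fr (B : LinearMap.BilinForm F V) (t : End F V) (n : ℕ) (φ : E →ₗ[F] V) (U : Submodule F V) :
    Prop extends Nil t n U where
  le : ∀ e, φ e ∈ U
  gen : ∀ u ∈ U, ∃ e, ∃ w ∈ U, u = φ e + t w
  top : ∀ e, (∀ w ∈ U, B ((t ^ n) (φ e)) w = 0) → e = 0

theorem Fr.exists_pow (hU : Fr B t n φ U) (h : St B Q t) {i j : ℕ} (hij : i + j = n + 1) {v : V}
    (hv : v ∈ U) (h0 : ∀ w ∈ U, B v ((t ^ i) w) = 0) : ∃ u ∈ U, v = (t ^ j) u := by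
  induction j generalizing i with
  | zero => exact ⟨v, hv, rfl⟩
  | succ j ih =>
    obtain ⟨u, hu, rfl⟩ := ih (i := i + 1) (by omega) fun w hw => pow_t t i w ▸ h0 _ (hU.mem w hw)
    obtain ⟨e, w, hw, rfl⟩ := hU.gen u hu
    obtain rfl : e = 0 := hU.top e fun z hz => by
      have := h0 z hz
      rwa [map_add, map_add, LinearMap.add_apply, pow_t, h.top_of_eq (hU.zero z hz) (by omega),
        h.zero_of_lt (hU.zero z hz) (by omega), add_zero] at this
    exact ⟨w, hw, by rw [map_zero, zero_add, pow_t]⟩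

theorem Fr.nondeg (hU : Fr B t n φ U) (h : St B Q t) {v : V} (hv : v ∈ U) (h0 : v ∈ perp B U) :
    v = 0 := by
  obtain ⟨u, hu, rfl⟩ := hU.exists_pow h (zero_add _) hv fun w hw => h.isRefl _ _ (h0 w hw)
  exact hU.zero u hu

theorem finrank_add_of_disjoint [FiniteDimensional F V] (h : Disjoint S U) :
    finrank F S + finrank F U = finrank F ↥(S ⊔ U) := by
  rw [← Submodule.finrank_sup_add_finrank_inf_eq, h.eq_bot, finrank_bot, add_zero]

theorem Fr.finrank_eq [FiniteDimensional F V] (hU : Fr B t n φ U) :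
    finrank F U = (n + 1) * finrank F E := by
  suffices H : ∀ d j, j + d = n + 1 → finrank F (U.map (t ^ j)) = d * finrank F E by
    have := H (n + 1) 0 (zero_add _)
    rwa [pow_zero, End.one_eq_id, Submodule.map_id] at this
  intro d
  induction d with
  | zero =>
    intro j hj
    rw [zero_mul, Submodule.finrank_eq_zero, eq_bot_iff]
    rintro _ ⟨u, hu, rfl⟩
    exact pow_apply_eq_zero_of_le hj.ge (hU.zero u hu)
  | succ d ih =>
    intro j hj
    have h1 : ∀ e, ∀ w ∈ U, (t ^ j) (φ e) = (t ^ (j + 1)) w → e = 0 := fun e w hw h => hU.top e fun z _ => by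
      rw [show n = d + j by omega, ← pow_pow, h, pow_pow, show d + (j + 1) = n + 1 by omega,
        hU.zero w hw, map_zero, LinearMap.zero_apply]
    have h2 : U.map (t ^ j) = LinearMap.range ((t ^ j) ∘ₗ φ) ⊔ U.map (t ^ (j + 1)) := by
      refine le_antisymm ?_ (sup_le ?_ ?_)
      · rintro _ ⟨u, hu, rfl⟩
        obtain ⟨e, w, hw, rfl⟩ := hU.gen u hu
        rw [map_add, pow_t]
        exact Submodule.add_mem_sup ⟨e, rfl⟩ ⟨w, hw, rfl⟩
      · rintro _ ⟨e, rfl⟩
        exact ⟨_, hU.le e, rfl⟩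
      · rintro _ ⟨w, hw, rfl⟩
        exact ⟨_, hU.mem w hw, pow_t ..⟩
    have h3 := finrank_add_of_disjoint (S := LinearMap.range ((t ^ j) ∘ₗ φ))
      (U := U.map (t ^ (j + 1))) (Submodule.disjoint_def.2 (by
        rintro _ ⟨e, rfl⟩ ⟨w, hw, h⟩
        rw [h1 e w hw h.symm, map_zero]))
    rw [h2, ← h3, ih _ (by omega), LinearMap.finrank_range_of_inj ((injective_iff_map_eq_zero _).2
      fun e he => h1 e 0 U.zero_mem (he.trans (map_zero _).symm)), add_one_mul, add_comm]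

/-- The types of blocks: `cyc k` is cyclic of dimension `2 k + 2`, `pair m` is free of rank two and of
dimension `2 m + 2`. -/
inductive Blk
  | cyc (k : ℕ) (β : Bool)
  | pair (m : ℕ) (β : Bool)
  deriving DecidableEq

/-- One less than the exponent. -/
def Blk.top : Blk → ℕ
  | cyc k _ => 2 * k + 1
  | pair m _ => m

/-- Half of the dimension. -/
def Blk.wt : Blk → ℕ
  | cyc k _ => k + 1
  | pair m _ => m + 1

/-- `U` is a block of the given type. -/
def IsBlk (α : F) (B : LinearMap.BilinForm F V) (Q : V → F) (t : End F V) :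
    Blk → Submodule F V → Prop
  | .cyc k β, U => ∃ x, U = gen t x ∧ (t ^ (2 * k + 1 + 1)) x = 0 ∧
      ∀ j, Q ((t ^ j) x) = if j = k + 1 then 1 else if j = k ∧ β then α else 0
  | .pair m β, U => (β → Even m) ∧ ∃ x y, U = gen t x ⊔ gen t y ∧ (t ^ (m + 1)) x = 0 ∧
      (t ^ (m + 1)) y = 0 ∧ (∀ j, Q ((t ^ j) x) = if 2 * j = m ∧ β then 1 else 0) ∧
      (∀ j, Q ((t ^ j) y) = if 2 * j = m ∧ β then α else 0) ∧
      ∀ j, B ((t ^ j) x) y = if j = m then 1 else 0

theorem St.fr_one (h : St B Q t) {x : V} {k : ℕ} (hx : (t ^ (2 * k + 1 + 1)) x = 0)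
    (h1 : Q ((t ^ (k + 1)) x) = 1) : Fr B t (2 * k + 1) (LinearMap.toSpanSingleton F V x) (gen t x) :=
  ⟨nil_gen hx, fun e => Submodule.smul_mem _ e (mem_gen x), fun _ => exists_of_mem_gen,
    fun e he => by simpa [← h.Q_top hx, h1] using he x (mem_gen x)⟩

theorem St.top_self (h : St B Q t) {x : V} (hx : (t ^ (n + 1)) x = 0)
    (h1 : ∀ j, n < 2 * j → Q ((t ^ j) x) = 0) : B ((t ^ n) x) x = 0 := by
  obtain ⟨k, rfl | rfl⟩ := n.even_or_odd'
  exacts [h.top_even hx, (h.Q_top hx).symm.trans (h1 _ (by omega))]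

theorem St.fr_two (h : St B Q t) {x y : V} (hx : (t ^ (n + 1)) x = 0) (hy : (t ^ (n + 1)) y = 0)
    (h1 : B ((t ^ n) x) x = 0) (h2 : B ((t ^ n) y) y = 0) (h3 : B ((t ^ n) x) y = 1) :
    Fr B t n ((LinearMap.toSpanSingleton F V x).coprod (LinearMap.toSpanSingleton F V y))
      (gen t x ⊔ gen t y) := by
  refine ⟨(nil_gen hx).sup (nil_gen hy), fun e => Submodule.add_mem_sup (Submodule.smul_mem _ _
    (mem_gen x)) (Submodule.smul_mem _ _ (mem_gen y)), fun u hu => ?_, fun e he => Prod.ext ?_ ?_⟩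
  · obtain ⟨a, ha, b, hb, rfl⟩ := Submodule.mem_sup.1 hu
    obtain ⟨c, w, hw, rfl⟩ := exists_of_mem_gen ha
    obtain ⟨d, z, hz, rfl⟩ := exists_of_mem_gen hb
    exact ⟨(c, d), w + z, Submodule.add_mem_sup hw hz, by simp; abel⟩
  · simpa [h2, h3] using he y (Submodule.mem_sup_right (mem_gen y))
  · simpa [h1, h.top_symm hy, h3] using he x (Submodule.mem_sup_left (mem_gen x))

theorem IsBlk.exists_fr {b : Blk} (hb : IsBlk α B Q t b U) (h : St B Q t) :
    ∃ r, ∃ φ : (Fin r → F) →ₗ[F] V, Fr B t b.top φ U ∧ (b.top + 1) * r = 2 * b.wt := by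
  have k : ∀ {E : Type _} [AddCommGroup E] [Module F E] {φ : E →ₗ[F] V} {r : ℕ}
      (e : (Fin r → F) ≃ₗ[F] E), Fr B t b.top φ U → Fr B t b.top (φ ∘ₗ e.toLinearMap) U :=
    fun e hU => ⟨hU.toNil, fun _ => hU.le _, fun u hu => by
      obtain ⟨a, w, hw, rfl⟩ := hU.gen u hu
      exact ⟨e.symm a, w, hw, by simp⟩, fun a ha => e.map_eq_zero_iff.1 (hU.top _ ha)⟩
  obtain ⟨k', β⟩ | ⟨m, β⟩ := b
  · obtain ⟨x, rfl, hx, h1⟩ := hb
    exact ⟨1, _, k (LinearEquiv.funUnique ..) (h.fr_one hx (by simp [h1])), by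
      simp [Blk.top, Blk.wt, mul_add]⟩
  · obtain ⟨-, x, y, rfl, hx, hy, h1, h2, h3⟩ := hb
    exact ⟨2, _, k (LinearEquiv.finTwoArrow ..) (h.fr_two (n := m) hx hy
      (h.top_self hx fun j hj => by rw [h1, if_neg fun e => by omega])
      (h.top_self hy fun j hj => by rw [h2, if_neg fun e => by omega]) (by simp [h3])), mul_comm ..⟩

theorem IsBlk.nil {b : Blk} (hb : IsBlk α B Q t b U) (h : St B Q t) : Nil t b.top U :=
  (hb.exists_fr h).choose_spec.choose_spec.1.toNil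

theorem IsBlk.nondeg {b : Blk} (hb : IsBlk α B Q t b U) (h : St B Q t) {v : V} (hv : v ∈ U)
    (h0 : v ∈ perp B U) : v = 0 :=
  (hb.exists_fr h).choose_spec.choose_spec.1.nondeg h hv h0

theorem IsBlk.finrank_eq [FiniteDimensional F V] {b : Blk} (hb : IsBlk α B Q t b U) (h : St B Q t) :
    finrank F U = 2 * b.wt := by
  obtain ⟨r, φ, h1, h2⟩ := hb.exists_fr h
  rw [h1.finrank_eq, finrank_fin_fun, h2]

theorem IsBlk.top_le {b : Blk} (hb : IsBlk α B Q t b U) (h : St B Q t)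
    (h0 : ∀ v ∈ U, (t ^ (n + 1)) v = 0) : b.top ≤ n := by
  by_contra hn
  obtain ⟨r, φ, h1, h2⟩ := hb.exists_fr h
  have h3 : r ≠ 0 := by rintro rfl; cases b <;> simp [Blk.wt] at h2
  exact one_ne_zero (congrFun (h1.top 1 fun w _ => by
    simp [pow_apply_eq_zero_of_le (not_le.1 hn) (h0 _ (h1.le 1))]) ⟨0, Nat.pos_of_ne_zero h3⟩)

theorem IsBlk.exists_conflict {b : Blk} (hb : IsBlk α B Q t b U) (h : St B Q t) {k : ℕ} {β : Bool}
    (hk : b = .cyc k β ∨ b = .pair (2 * k) β ∨ ∃ j, j + 1 = k ∧ b = .cyc j β) :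
    ∃ z ∈ U, Q ((t ^ (k + 1)) z) = 0 ∧ Q ((t ^ k) z) ≠ 0 := by
  obtain rfl | rfl | ⟨j, rfl, rfl⟩ := hk
  · obtain ⟨x, rfl, hx, h1⟩ := hb
    exact ⟨t x, t_mem_gen x x (mem_gen x), by simp [pow_t, h1]; omega, by simp [pow_t, h1]⟩
  · obtain ⟨-, x, y, rfl, hx, hy, h1, h2, h3⟩ := hb
    cases β
    · refine ⟨x + y, Submodule.add_mem_sup (mem_gen x) (mem_gen y),
        h.Q_zero (n := 2 * k) (by rw [map_add, hx, hy, add_zero]) (by omega), ?_⟩
      simp [h.add, h1, h2, h.top_of_eq hy (two_mul k).symm, h3]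
    · exact ⟨x, Submodule.mem_sup_left (mem_gen x), by simp [h1], by simp [h1]⟩
  · obtain ⟨x, rfl, hx, h1⟩ := hb
    exact ⟨x, mem_gen x, by simp [h1]; omega, by simp [h1]⟩

/-- Orthogonal decompositions into blocks. -/
inductive Dec (α : F) (B : LinearMap.BilinForm F V) (Q : V → F) (t : End F V) :
    Submodule F V → Multiset Blk → Prop
  | nil : Dec α B Q t ⊥ 0
  | cons {b : Blk} {U P : Submodule F V} {s : Multiset Blk} : IsBlk α B Q t b U → P ≤ perp B U →
      Dec α B Q t P s → Dec α B Q t (U ⊔ P) (b ::ₘ s)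

theorem Dec.inv {s : Multiset Blk} (hP : Dec α B Q t P s) (h : St B Q t) {b : Blk} (hb : b ∈ s) :
    ∃ U P', IsBlk α B Q t b U ∧ P' ≤ perp B U ∧ Dec α B Q t P' (s.erase b) ∧ P = U ⊔ P' := by
  induction hP with
  | nil => simp at hb
  | @cons b₀ U₀ P₀ s h1 h2 h3 ih =>
    rcases eq_or_ne b₀ b with rfl | e
    · exact ⟨U₀, P₀, h1, h2, by simpa using h3, rfl⟩
    · obtain ⟨U, P', k1, k2, k3, rfl⟩ := ih ((Multiset.mem_cons.1 hb).resolve_left e.symm)
      refine ⟨U, U₀ ⊔ P', k1, sup_le (fun v hv u hu => h.isRefl _ _ (h2 (Submodule.mem_sup_left hu) v hv))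
        k2, ?_, sup_left_comm ..⟩
      rw [Multiset.erase_cons_tail _ e]
      exact .cons h1 (le_sup_right.trans h2) k3

theorem Dec.finrank_eq [FiniteDimensional F V] {s : Multiset Blk} (hP : Dec α B Q t P s)
    (h : St B Q t) : finrank F P = 2 * (s.map Blk.wt).sum := by
  induction hP with
  | nil => simp
  | cons h1 h2 _ ih =>
    rw [← finrank_add_of_disjoint (Submodule.disjoint_def.2 fun v hv hv' =>
      h1.nondeg h hv (h2 hv')), ih, h1.finrank_eq h, Multiset.map_cons, Multiset.sum_cons, mul_add]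

end Cfsg.Agent.Class.Char2
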