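import Cfsg.Agent.Class.Char2.Block

/-!
# Existence of decompositions into blocks
-/

set_option autoImplicit false

namespace Cfsg.Agent.Class.Char2

open Module
open Cfsg.Agent.KSG (pow_apply_eq_zero_of_le)

variable {F V : Type*} [Field F] [AddCommGroup V] [Module F V]
  {B : LinearMap.BilinForm F V} {Q : V → F} {t : End F V} {n : ℕ} {S U P : Submodule F V} {α : F}

/-- No block `pair n false` can be split off. -/
def NoPair (B : LinearMap.BilinForm F V) (Q : V → F) (t : End F V) (n : ℕ) (P : Submodule F V) : Prop :=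
  ∀ x ∈ P, ∀ y ∈ P, (∀ j, n ≤ 2 * j → Q ((t ^ j) x) = 0) → (∀ j, n ≤ 2 * j → Q ((t ^ j) y) = 0) →
    B ((t ^ n) x) y = 0

theorem exists_sq_mul [Finite F] (h2 : (2 : F) = 0) {a : F} (ha : a ≠ 0) (b : F) :
    ∃ c, c * c * a = b := by
  obtain ⟨c, hc⟩ := Symm2.exists_sq_eq h2 (b / a)
  exact ⟨c, by rw [← sq, hc, div_mul_cancel₀ _ ha]⟩

theorem exists_top_eq_one (hm : ∀ v ∈ P, t v ∈ P) (hP : ∀ v ∈ P, v ∈ perp B P → v = 0) (h : St B Q t)
    {x : V} (hx : x ∈ P) (h0 : (t ^ n) x ≠ 0) : ∃ y ∈ P, B ((t ^ n) x) y = 1 := by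
  obtain ⟨y, hy, h1⟩ : ∃ y ∈ P, B ((t ^ n) x) y ≠ 0 := by
    by_contra! H
    exact h0 (hP _ (pow_mem' hm n hx) fun w hw => h.isRefl _ _ (H w hw))
  exact ⟨(B ((t ^ n) x) y)⁻¹ • y, P.smul_mem _ hy, by simp [h1]⟩

theorem St.exists_cyc (h : St B Q t) {k : ℕ} (hP : Nil t (2 * k + 1) P) {x : V} (hx : x ∈ P)
    (h1 : Q ((t ^ (k + 1)) x) = 1) {β : Bool} (h2 : Q ((t ^ k) x) = if β then α else 0) :
    ∃ U ≤ P, IsBlk α B Q t (.cyc k β) U := by
  obtain ⟨v, hv, h3⟩ := h.exists_Q_eq hP hx (by rw [← h.Q_top (hP.zero x hx), h1]) (J := k) (by omega)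
    fun i hi => h.Q_zero (hP.zero x hx) (by omega)
  have h4 := P.add_mem hx (hP.mem v hv)
  refine ⟨_, gen_le hP.mem h4, _, rfl, hP.zero _ h4, fun j => (h3 j).trans ?_⟩
  rcases lt_trichotomy j k with hj | rfl | hj
  · simp [hj, hj.ne, show j ≠ k + 1 by omega]
  · simp [h2]
  · rcases (Nat.succ_le_of_lt hj).eq_or_lt with rfl | hj'
    · simp [h1]
    · rw [if_neg (by omega), if_neg (by omega), if_neg (by omega), h.Q_zero (hP.zero x hx) (by omega)]

variable [Finite F]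

theorem St.exists_block (h : St B Q t) (hα : ∀ c, ∃ d, c + d * d + d = 0 ∨ c + d * d + d = α)
    (hP : Nil t n P) (hn : ∀ v ∈ P, v ∈ perp B P → v = 0) {x₀ : V} (hx₀ : x₀ ∈ P)
    (h0 : (t ^ n) x₀ ≠ 0) : ∃ b, ∃ U ≤ P, IsBlk α B Q t b U ∧ b.top = n ∧
      (∀ k, b = .cyc k true ∨ b = .pair (2 * k) true → ∀ z ∈ P, z ∈ perp B U →
        Q ((t ^ (k + 1)) z) = 0 → Q ((t ^ k) z) = 0) ∧ ∀ k β, b = .cyc k β → NoPair B Q t n P := by
  have hz := hP.zero
  by_cases h1 : NoPair B Q t n P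
  swap
  · simp only [NoPair, not_forall] at h1
    obtain ⟨x, hx, y, hy, h1, h2, h3⟩ := h1
    obtain ⟨x', hx', y', hy', k1, k2, k3⟩ := h.exists_pair hP hx (P.smul_mem (B ((t ^ n) x) y)⁻¹ hy)
      (by simp [h3]) (h.top_self (hz x hx) fun j hj => h1 j hj.le)
      (by simp [h.top_self (hz y hy) fun j hj => h2 j hj.le])
    refine ⟨.pair n false, _, sup_le (gen_le hP.mem hx') (gen_le hP.mem hy'), ⟨by simp, x', y', rfl,
      hz _ hx', hz _ hy', fun j => ?_, fun j => ?_, k3⟩, rfl, by simp, by simp⟩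
    · simpa [k1] using fun e => h1 j e.ge
    · simpa [k2, h.smul, h3] using fun e => h2 j e.ge
  obtain ⟨y₀, hy₀, e₀⟩ := exists_top_eq_one hP.mem hn h hx₀ h0
  obtain ⟨k, rfl | rfl⟩ := n.even_or_odd'
  · have k1 : ∀ x ∈ P, Q ((t ^ k) x) = 0 → ∀ j, 2 * k ≤ 2 * j → Q ((t ^ j) x) = 0 :=
      fun x hx e j hj => by
        rcases hj.eq_or_lt with hj | hj
        exacts [(show k = j by omega) ▸ e, h.Q_zero (hz x hx) (by omega)]
    have k2 : ∀ x ∈ P, ∀ y ∈ P, B ((t ^ (2 * k)) x) y = 1 → Q ((t ^ k) x) ≠ 0 := fun x hx y hy e e' => by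
      have := h1 x hx _ (P.add_mem hy (P.smul_mem (Q ((t ^ k) y)) hx)) (k1 x hx e')
        (k1 _ (P.add_mem hy (P.smul_mem _ hx)) (by
          rw [h.Q_add_smul, e', h.symm, h.top_of_eq (hz y hy) (two_mul k).symm, e]
          linear_combination Q ((t ^ k) y) * h.two))
      simp [e, h.top_even (hz x hx)] at this
    obtain ⟨c, hc⟩ := exists_sq_mul h.two (k2 _ hx₀ _ hy₀ e₀) 1
    have hc0 : c ≠ 0 := by rintro rfl; simp at hc
    have hx := P.smul_mem c hx₀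
    have hy := P.smul_mem c⁻¹ hy₀
    have e : B ((t ^ (2 * k)) (c • x₀)) (c⁻¹ • y₀) = 1 := by simp [e₀, hc0]
    replace hc : Q ((t ^ k) (c • x₀)) = 1 := by rw [map_smul, h.smul, hc]
    generalize c • x₀ = x, c⁻¹ • y₀ = y at hx hy e hc
    obtain ⟨d, hd⟩ := hα (Q ((t ^ k) y))
    have hy' := P.add_mem hy (P.smul_mem d hx)
    have e' : B ((t ^ (2 * k)) x) (y + d • x) = 1 := by simp [e, h.top_even (hz x hx)]
    have k3 : Q ((t ^ k) (y + d • x)) = Q ((t ^ k) y) + d * d + d := by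
      rw [h.Q_add_smul, hc, h.symm, h.top_of_eq (hz y hy) (two_mul k).symm, e, mul_one, mul_one]
    rw [← k3] at hd
    replace hd := hd.resolve_left (k2 _ hy' _ hx (by rw [h.top_symm (hz _ hy'), e']))
    obtain ⟨x', hx', y', hy'', l1, l2, l3⟩ := h.exists_pair hP hx hy' e' (h.top_even (hz x hx))
      (h.top_even (hz _ hy'))
    refine ⟨.pair (2 * k) true, _, sup_le (gen_le hP.mem hx') (gen_le hP.mem hy''), ⟨by simp, x', y', rfl,
      hz _ hx', hz _ hy'', fun j => ?_, fun j => ?_, l3⟩, rfl, fun k' hk z hz' hz'' _ => ?_, by simp⟩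
    · simpa [l1] using ite_congr rfl (fun e => by rw [e, hc]) fun _ => rfl
    · simpa [l2, -map_add] using ite_congr rfl (fun e => by rw [e, hd]) fun _ => rfl
    obtain rfl : k = k' := by simpa using hk
    by_contra hne
    obtain ⟨c, hc'⟩ := exists_sq_mul h.two hne 1
    refine k2 _ (P.add_mem hx' (P.smul_mem c hz')) y' hy'' ?_ ?_
    · have := hz'' _ (Submodule.mem_sup_right (pow_mem_gen (2 * k) y'))
      rw [h.top_symm (hz _ hy'')] at this
      simp [l3, this]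
    · have := hz'' _ (Submodule.mem_sup_left (pow_mem_gen (2 * k) x'))
      rw [h.Q_add_smul, hc', h.top_of_eq (hz z hz') (two_mul k).symm, this, l1, if_pos rfl, hc]
      linear_combination h.two
  · have k1 : ∀ x ∈ P, Q ((t ^ (k + 1)) x) = 0 → ∀ j, 2 * k + 1 ≤ 2 * j → Q ((t ^ j) x) = 0 :=
      fun x hx e j hj => h.Q_zero' (hz x hx) (by rw [← h.Q_top (hz x hx), e]) (by omega)
    by_cases h2 : ∃ x ∈ P, Q ((t ^ (k + 1)) x) = 1 ∧ Q ((t ^ k) x) = 0
    · obtain ⟨x, hx, h2, h3⟩ := h2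
      obtain ⟨U, k2, k3⟩ := h.exists_cyc (α := α) (β := false) hP hx h2 h3
      exact ⟨_, U, k2, k3, rfl, by simp, fun _ _ _ => h1⟩
    obtain ⟨x, hx, h3⟩ : ∃ x ∈ P, Q ((t ^ (k + 1)) x) ≠ 0 := by
      by_contra! H
      exact one_ne_zero (e₀.symm.trans (h1 _ hx₀ _ hy₀ (k1 _ hx₀ (H _ hx₀)) (k1 _ hy₀ (H _ hy₀))))
    obtain ⟨c, hc⟩ := exists_sq_mul h.two h3 1
    replace hx := P.smul_mem c hx
    replace hc : Q ((t ^ (k + 1)) (c • x)) = 1 := by rw [map_smul, h.smul, hc]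
    generalize c • x = x at hx hc
    obtain ⟨d, hd⟩ := hα (Q ((t ^ k) x))
    have k2 : Q ((t ^ k) (x + d • t x)) = Q ((t ^ k) x) + d * d + d := by
      rw [h.Q_add_smul, pow_t, hc, h.top_of_eq (hz x hx) (by omega), ← h.Q_top (hz x hx), hc, mul_one,
        mul_one]
    have k3 : Q ((t ^ (k + 1)) (x + d • t x)) = 1 := by
      rw [← map_smul, h.Q_add_t (hz _ (P.smul_mem d hx)) (by omega), hc]
    have k4 := P.add_mem hx (P.smul_mem d (hP.mem x hx))
    rw [← k2] at hd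
    obtain ⟨U, k5, k6⟩ := h.exists_cyc (α := α) (β := true) hP k4 k3
      (hd.resolve_left fun e => h2 ⟨_, k4, k3, e⟩)
    refine ⟨_, U, k5, k6, rfl, fun k' hk z hz' hz'' e => ?_, fun _ _ _ => h1⟩
    obtain rfl : k = k' := by simpa using hk
    obtain ⟨x', rfl, l1, l2⟩ := k6
    by_contra hne
    obtain ⟨c, hc'⟩ := exists_sq_mul h.two hne α
    refine h2 ⟨_, P.add_mem (k5 (mem_gen x')) (P.smul_mem c hz'), ?_, ?_⟩
    · simp [-map_add, h.Q_add_smul, l2, e, h.zero_of_lt l1 (show 2 * k + 1 < k + 1 + (k + 1) by omega),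
        h.symm ((t ^ (k + 1)) x')]
    · have := pow_mem' (fun _ => h.perp_mem (nil_gen l1)) k hz'' _ (pow_mem_gen k x')
      rw [h.Q_add_smul, hc', this, l2]
      simp only [Nat.left_eq_add, one_ne_zero, if_false, and_self, if_true]
      linear_combination α * h.two

omit [Finite F] in
theorem NoPair.count_le (h1 : NoPair B Q t n P) (h : St B Q t) {k : ℕ} {β : Bool} (hP : Nil t n P)
    (hn : 2 * k + 1 = n) (hU : IsBlk α B Q t (.cyc k β) U) (hUP : U ≤ P) (hS : S ≤ P ⊓ perp B U)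
    {s : Multiset Blk} (hs : Dec α B Q t S s) :
    s.count (.cyc k false) + s.count (.cyc k true) ≤ 1 := by
  subst hn
  by_contra H
  obtain ⟨β₁, β₂, h2, h3⟩ : ∃ β₁ β₂, .cyc k β₁ ∈ s ∧ .cyc k β₂ ∈ s.erase (.cyc k β₁) := by
    simp only [← Multiset.count_pos, Bool.exists_bool, Multiset.count_erase_self]
    rw [Multiset.count_erase_of_ne (by simp), Multiset.count_erase_of_ne (by simp)]
    omega
  obtain ⟨_, S₁, ⟨y, rfl, y1, y2⟩, k1, k2, rfl⟩ := hs.inv h h2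
  obtain ⟨_, S₂, ⟨z, rfl, z1, z2⟩, -, -, rfl⟩ := k2.inv h h3
  obtain ⟨x, rfl, x1, x2⟩ := hU
  have hy := hS (Submodule.mem_sup_left (mem_gen y))
  have hz' : z ∈ gen t z ⊔ S₂ := Submodule.mem_sup_left (mem_gen z)
  have hz := hS (Submodule.mem_sup_right hz')
  have hx := hUP (mem_gen x)
  have k : ∀ a ∈ P, ∀ b ∈ P, Q ((t ^ (k + 1)) a) = 1 → Q ((t ^ (k + 1)) b) = 1 →
      ∀ j, 2 * k + 1 ≤ 2 * j → Q ((t ^ j) (a + b)) = 0 := fun a ha b hb e e' j hj =>
    h.Q_zero' (hP.zero _ (P.add_mem ha hb)) (by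
      rw [← h.Q_top (hP.zero _ (P.add_mem ha hb)), map_add, h.add, e, e',
        h.zero_of_lt (hP.zero b hb) (by omega)]
      linear_combination h.two) (by omega)
  have := h1 _ (P.add_mem hx hy.1) _ (P.add_mem hy.1 hz.1) (k x hx y hy.1 (by simp [x2]) (by simp [y2]))
    (k y hy.1 z hz.1 (by simp [y2]) (by simp [z2]))
  simp [mem_perp_gen.1 hy.2, mem_perp_gen.1 hz.2, mem_perp_gen.1 (k1 hz'), ← h.Q_top y1, y2] at this

/-- The admissible multisets of blocks. -/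
def Valid (s : Multiset Blk) : Prop := ∀ k,
  s.count (.cyc k false) + s.count (.cyc k true) ≤ 2 ∧
  s.count (.cyc k true) + s.count (.pair (2 * k) true) ≤ 1 ∧
  (s.count (.cyc k true) = 0 ∨ s.count (.pair (2 * k) false) = 0) ∧
  (s.count (.cyc (k + 1) true) + s.count (.pair (2 * (k + 1)) true) = 0 ∨
    s.count (.cyc k false) + s.count (.cyc k true) = 0) ∧
  s.count (.pair (2 * k + 1) true) = 0

theorem Valid.cons {s : Multiset Blk} (hs : Valid s) {b : Blk} (h1 : ∀ b' ∈ s, b'.top ≤ b.top)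
    (h2 : ∀ k, b = .cyc k true ∨ b = .pair (2 * k) true → ∀ β b',
      (b' = .cyc k β ∨ b' = .pair (2 * k) β ∨ ∃ j, j + 1 = k ∧ b' = .cyc j β) → b' ∉ s)
    (h3 : ∀ k β, b = .cyc k β → s.count (.cyc k false) + s.count (.cyc k true) ≤ 1)
    (h4 : ∀ k, b ≠ .pair (2 * k + 1) true) : Valid (b ::ₘ s) := fun k => by
  have e1 : ∀ j β, 2 * j + 1 ≤ b.top ∨ s.count (.cyc j β) = 0 := fun j β =>
    or_iff_not_imp_right.2 fun e => h1 _ (Multiset.count_ne_zero.1 e)
  have e2 : ∀ j β, j ≤ b.top ∨ s.count (.pair j β) = 0 := fun j β =>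
    or_iff_not_imp_right.2 fun e => h1 _ (Multiset.count_ne_zero.1 e)
  simp only [← Multiset.count_eq_zero] at h2
  have := hs k
  have := e1 k true
  have := e1 (k + 1) true
  have := e2 (2 * (k + 1)) true
  simp only [Multiset.count_cons]
  obtain ⟨j, _ | _⟩ | ⟨j, _ | _⟩ := b <;> simp only [Blk.top, Blk.cyc.injEq, Blk.pair.injEq,
    reduceCtorEq, and_true, and_false, if_false] at *
  · have := fun e => h3 k false ⟨e, rfl⟩
    split_ifs <;> omega
  · have := h2 j (by simp) true _ (Or.inl rfl)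
    have := h2 j (by simp) false _ (Or.inl rfl)
    have := h2 j (by simp) true _ (Or.inr (Or.inl rfl))
    have := h2 j (by simp) false _ (Or.inr (Or.inl rfl))
    have := fun e => h2 j (by simp) true _ (Or.inr (Or.inr ⟨k, e, rfl⟩))
    have := fun e => h2 j (by simp) false _ (Or.inr (Or.inr ⟨k, e, rfl⟩))
    rcases eq_or_ne k j with rfl | e <;> split_ifs <;> omega
  · split_ifs <;> omega
  · have := fun e => h2 k (Or.inr e) true _ (Or.inr (Or.inl rfl))
    have := fun e => h2 (k + 1) (Or.inr e) true _ (Or.inr (Or.inr ⟨k, rfl, rfl⟩))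
    have := fun e => h2 (k + 1) (Or.inr e) false _ (Or.inr (Or.inr ⟨k, rfl, rfl⟩))
    have := h4 k
    simp only [ne_eq, Blk.pair.injEq, and_true] at this
    split_ifs <;> omega

theorem St.exists_dec [FiniteDimensional F V] (h : St B Q t)
    (hα : ∀ c, ∃ d, c + d * d + d = 0 ∨ c + d * d + d = α) (hP : Nil t n P)
    (hn : ∀ v ∈ P, v ∈ perp B P → v = 0) : ∃ s, Dec α B Q t P s ∧ Valid s := by
  classical
  induction hd : finrank F P using Nat.strong_induction_on generalizing P n with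
  | h d ih =>
  rcases eq_or_ne P ⊥ with rfl | h0
  · exact ⟨0, .nil, fun _ => by simp⟩
  have h1 : ∃ m, ∀ v ∈ P, (t ^ (m + 1)) v = 0 := ⟨n, hP.zero⟩
  obtain ⟨x, hx, h2⟩ : ∃ x ∈ P, (t ^ Nat.find h1) x ≠ 0 := by
    by_contra! H
    rcases (Nat.find h1).eq_zero_or_pos with e | e
    · exact h0 (eq_bot_iff.2 fun v hv => by simpa [e] using H v hv)
    · exact Nat.find_min h1 (Nat.sub_one_lt e.ne') (by rwa [Nat.sub_add_cancel e])
  replace hP : Nil t (Nat.find h1) P := ⟨hP.mem, Nat.find_spec h1⟩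
  obtain ⟨b, U, k1, k2, k3, k4, k5⟩ := h.exists_block hα hP hn hx h2
  have k6 : U ⊔ P ⊓ perp B U = P := by
    rw [inf_comm, ← sup_inf_assoc_of_le _ k1, show U ⊔ perp B U = ⊤ from
      ((LinearMap.BilinForm.isCompl_orthogonal_iff_disjoint h.isRefl).2 (Submodule.disjoint_def.2
        fun v => k2.nondeg h)).sup_eq_top, top_inf_eq]
  have k7 : Nil t _ (P ⊓ perp B U) := hP.of_le inf_le_left fun v hv =>
    ⟨hP.mem v hv.1, h.perp_mem (k2.nil h) hv.2⟩
  obtain ⟨s, h3, h4⟩ := ih _ (by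
    rw [← hd]
    conv_rhs => rw [← k6, ← finrank_add_of_disjoint (U := P ⊓ perp B U) (Submodule.disjoint_def.2
      fun v hv hv' => k2.nondeg h hv hv'.2), k2.finrank_eq h]
    cases b <;> simp [Blk.wt]) k7 (fun v hv hv' => hn v hv.1 fun w hw => by
      obtain ⟨a, ha, b, hb, rfl⟩ := Submodule.mem_sup.1 (k6.ge hw)
      rw [map_add, LinearMap.add_apply, hv.2 a ha, hv' b hb, add_zero]) rfl
  refine ⟨b ::ₘ s, k6 ▸ .cons k2 inf_le_right h3, h4.cons (fun b' hb => ?_) (fun k hk β b' e hb => ?_)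
    (fun k β e => ?_) fun k e => ?_⟩
  · obtain ⟨U', S, l1, -, -, l2⟩ := h3.inv h hb
    exact k3 ▸ l1.top_le h fun v hv => k7.zero v (l2 ▸ Submodule.mem_sup_left hv)
  · obtain ⟨U', S, l1, -, -, l2⟩ := h3.inv h hb
    obtain ⟨z, l3, l4, l5⟩ := l1.exists_conflict h e
    have := l2.ge (Submodule.mem_sup_left l3)
    exact l5 (k4 k hk z this.1 this.2 l4)
  · subst e
    exact (k5 k β rfl).count_le h hP k3 k2 k1 le_rfl h3
  · subst e
    simpa using k2.1

end Cfsg.Agent.Class.Char2
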