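import Cfsg.Agent.Class.Char2.Block
import Cfsg.Agent.Class.FG.SelfDual

/-!
# Gauss sums of quadratic forms in characteristic two
-/

set_option autoImplicit false

namespace Cfsg.Agent.Class.Char2

open Module Finset

variable {F V V' : Type*} [Field F] [AddCommGroup V] [Module F V] [AddCommGroup V'] [Module F V']
  {B : LinearMap.BilinForm F V} {Q : V → F} {t : End F V} {M U P : Submodule F V} {α : F}

open Classical in
/-- The additive character with kernel `{d ^ 2 + d}`. -/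
noncomputable def chi (c : F) : ℤ := if ∃ d, d * d + d = c then 1 else -1

/-- The Artin–Schreier map. -/
def wp (h2 : (2 : F) = 0) : F →+ F :=
  AddMonoidHom.mk' (fun d => d * d + d) fun a b => by linear_combination a * b * h2

theorem index_wp [Finite F] (h2 : (2 : F) = 0) : (wp h2).range.index = 2 := by
  have h1 : Nat.card (wp h2).ker = 2 := Nat.card_eq_two_iff.2 ⟨0, ⟨1, by simpa [wp, one_add_one_eq_two]⟩,
    fun e => zero_ne_one (congrArg Subtype.val e), Set.eq_univ_of_forall fun ⟨d, (hd : d * d + d = 0)⟩ => by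
      have : d * (d - 1) = 0 := by linear_combination hd - d * h2
      simpa [Subtype.ext_iff, sub_eq_zero] using this⟩
  have h3 := FG.card_eq_card_range_mul (wp h2)
  rw [h1, ← (wp h2).range.card_mul_index] at h3
  exact Nat.eq_of_mul_eq_mul_left Nat.card_pos h3

theorem chi_zero : chi (0 : F) = 1 := if_pos ⟨0, by simp⟩

theorem chi_mul_self (c : F) : chi c * chi c = 1 := by unfold chi; split_ifs <;> rfl

theorem chi_eq (c : F) : chi c = 1 ∨ chi c = -1 := by unfold chi; split_ifs <;> simp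

variable [Finite F]

theorem chi_add (h2 : (2 : F) = 0) (a b : F) : chi (a + b) = chi a * chi b := by
  have : (∃ d, d * d + d = a + b) ↔ ((∃ d, d * d + d = a) ↔ ∃ d, d * d + d = b) :=
    AddSubgroup.add_mem_iff_of_index_two (index_wp h2)
  unfold chi
  split_ifs <;> first | rfl | tauto

theorem chi_sq (h2 : (2 : F) = 0) (c : F) : chi (c * c) = chi c := by
  have := chi_add h2 (c * c + c) c
  rwa [show chi (c * c + c) = 1 from if_pos ⟨c, rfl⟩, one_mul,
    show c * c + c + c = c * c by linear_combination c * h2] at this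

theorem exists_alpha (h2 : (2 : F) = 0) : ∃ α : F, chi α = -1 ∧
    ∀ c, ∃ d, c + d * d + d = 0 ∨ c + d * d + d = α := by
  obtain ⟨α, h⟩ := AddSubgroup.index_eq_two_iff.1 (index_wp h2)
  refine ⟨α, if_neg fun e => ?_, fun c => ?_⟩
  · simpa [show α ∈ (wp h2).range from e] using h 0
  · obtain ⟨⟨d, hd : d * d + d = _⟩, -⟩ | ⟨⟨d, hd : d * d + d = _⟩, -⟩ := h c
    exacts [⟨d, Or.inr (by linear_combination hd + c * h2)⟩, ⟨d, Or.inl (by linear_combination hd + c * h2)⟩]

open Classical in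
theorem sum_chi_B (h2 : (2 : F) = 0) [Fintype U] (z : V) :
    ∑ w : U, chi (B w z) = if z ∈ perp B U then Fintype.card U else 0 := by
  split_ifs with h
  · simp [h _ (Subtype.prop _), chi_zero]
  obtain ⟨w, hw, h1⟩ : ∃ w ∈ U, B w z ≠ 0 := by simpa [mem_perp] using h
  obtain ⟨α, h3, -⟩ := exists_alpha h2
  have := Equiv.sum_comp (Equiv.addRight (⟨(α / B w z) • w, U.smul_mem _ hw⟩ : U))
    fun w : U => chi (B w z)
  simp only [Equiv.coe_addRight, Submodule.coe_add, map_add, LinearMap.add_apply, chi_add h2,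
    map_smul, LinearMap.smul_apply, smul_eq_mul, div_mul_cancel₀ _ h1, h3, mul_neg, mul_one,
    sum_neg_distrib] at this
  omega

/-- The Gauss sum of `Q` on `U`. -/
noncomputable def gs (Q : V → F) (U : Submodule F V) : ℤ := ∑ᶠ v : U, chi (Q v)

omit [Finite F] in
theorem gs_congr {Q' : V' → F} {U' : Submodule F V'} (e : U ≃ U') (he : ∀ v, Q' (e v) = Q v) :
    gs Q U = gs Q' U' := by
  rw [gs, gs, ← finsum_comp_equiv e]
  simp only [he]

variable [FiniteDimensional F V]

theorem gs_sup (h : St B Q t) (hd : Disjoint U P) (h0 : P ≤ perp B U) :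
    gs Q (U ⊔ P) = gs Q U * gs Q P := by
  have : Finite V := Module.finite_of_finite F
  have := fun U : Submodule F V => Fintype.ofFinite U
  simp only [gs, finsum_eq_sum_of_fintype, sum_mul_sum, ← Fintype.sum_prod_type']
  refine (Fintype.sum_bijective (fun x : U × P => (⟨x.1 + x.2, Submodule.add_mem_sup x.1.2 x.2.2⟩ :
    ↥(U ⊔ P))) ⟨fun x y e => ?_, fun ⟨v, hv⟩ => ?_⟩ _ _ fun x => ?_).symm
  · exact Prod.ext_iff.2 (by
      simpa using (Submodule.disjoint_iff_add_eq_zero.1 hd (U.sub_mem x.1.2 y.1.2) (P.sub_mem x.2.2 y.2.2)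
        (by rw [sub_add_sub_comm, sub_eq_zero]; exact congrArg Subtype.val e)).imp sub_eq_zero.1
        sub_eq_zero.1)
  · obtain ⟨a, ha, b, hb, rfl⟩ := Submodule.mem_sup.1 hv
    exact ⟨(⟨a, ha⟩, ⟨b, hb⟩), rfl⟩
  · rw [h.add, h0 x.2.2 _ x.1.2, add_zero, chi_add h.two]

theorem gs_shift (h2 : (2 : F) = 0) (h : ∀ x y, Q (x + y) = Q x + Q y + B x y) {a : V} (ha : a ∈ U) :
    gs (fun v => Q v + B a v * B a v) U = chi (Q a) * gs Q U := by
  have : Finite V := Module.finite_of_finite F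
  have := Fintype.ofFinite U
  simp only [gs, finsum_eq_sum_of_fintype, mul_sum]
  rw [← Equiv.sum_comp (Equiv.addLeft (⟨a, ha⟩ : U)) fun v : U => chi (Q a) * chi (Q v)]
  refine sum_congr rfl fun v _ => ?_
  simp only [Equiv.coe_addLeft, Submodule.coe_add, h, chi_add h2, chi_sq h2, ← mul_assoc,
    chi_mul_self, one_mul]

theorem gs_pos (h2 : (2 : F) = 0) (h : ∀ x y, Q (x + y) = Q x + Q y + B x y) (hM : M ≤ U)
    (h0 : ∀ v ∈ M, Q v = 0) (h1 : ∀ v ∈ U, v ∈ perp B M → Q v = 0) : 0 < gs Q U := by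
  classical
  have : Finite V := Module.finite_of_finite F
  have := fun U : Submodule F V => Fintype.ofFinite U
  have h3 : (Fintype.card M : ℤ) * gs Q U = ∑ v : U, if v.1 ∈ perp B M then Fintype.card M else 0 := by
    rw [gs, finsum_eq_sum_of_fintype, ← nsmul_eq_mul, ← card_univ, ← sum_const, sum_congr rfl
      fun (w : M) _ => (Equiv.sum_comp (Equiv.addLeft (⟨w, hM w.2⟩ : U)) fun v : U => chi (Q v)).symm,
      sum_comm, Nat.cast_sum]
    refine sum_congr rfl fun v _ => ?_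
    simp only [Equiv.coe_addLeft, Submodule.coe_add, h, h0 _ (Subtype.prop _), zero_add, chi_add h2,
      ← mul_sum, sum_chi_B h2]
    split_ifs with e
    · rw [h1 _ v.2 e, chi_zero, one_mul, card_univ]
    · simp
  have h4 : 0 < ∑ v : U, if v.1 ∈ perp B M then Fintype.card M else 0 :=
    sum_pos' (fun _ _ => Nat.zero_le _) ⟨0, mem_univ _, by simp [Fintype.card_pos]⟩
  exact pos_of_mul_pos_right (h3 ▸ Nat.cast_pos.2 h4) (Nat.cast_nonneg _)

theorem gs_ne_zero (h : St B Q t) (h1 : ∀ v ∈ U, v ∈ perp B U → v = 0) : gs Q U ≠ 0 := fun e => by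
  classical
  have : Finite V := Module.finite_of_finite F
  have := Fintype.ofFinite U
  have h3 : gs Q U * gs Q U = Fintype.card U := by
    rw [gs, finsum_eq_sum_of_fintype, sum_mul_sum, sum_congr rfl fun (w : U) _ =>
      (Equiv.sum_comp (Equiv.addLeft w) fun v : U => chi (Q w) * chi (Q v)).symm, sum_comm,
      sum_eq_single 0 (fun v _ hv => ?_) (by simp)]
    · simp [chi_mul_self]
    · simp only [Equiv.coe_addLeft, Submodule.coe_add, h.add, chi_add h.two, ← mul_assoc, chi_mul_self,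
        one_mul, ← mul_sum, sum_chi_B h.two]
      rw [if_neg fun k => hv (Subtype.ext (h1 _ v.2 k))]
      simp
  simp [e, eq_comm] at h3

theorem gs_sign (h : St B Q t) {e f : V} (hM : M ≤ U) (h0 : ∀ v ∈ M, Q v = 0) (he : e ∈ U)
    (hf : f ∈ U) (he' : e ∈ perp B M) (hf' : f ∈ perp B M) (hef : B e f = 1)
    (h1 : ∀ v ∈ U, v ∈ perp B M → ∃ a b : F, ∃ w ∈ M, v = a • e + b • f + w) :
    0 < chi (Q e * Q f) * gs Q U := by
  obtain ⟨c, hc⟩ := Symm2.exists_sq_eq h.two (Q e)
  have h2 : ∀ (a : F), ∀ w ∈ M, Q (a • e + w) + B (c • f) (a • e + w) * B (c • f) (a • e + w) = 0 :=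
    fun a w hw => by
      simp only [h.add, h.smul, h0 w hw, map_add, map_smul, LinearMap.smul_apply, h.symm f, h.symm e w,
        he' w hw, hf' w hw, hef, smul_eq_mul, ← hc]
      linear_combination a * a * c * c * h.two
  rw [← hc, sq, ← h.smul, ← gs_shift h.two h.add (U.smul_mem c hf)]
  refine gs_pos (B := B) (M := F ∙ e ⊔ M) h.two (fun x y => ?_)
    (sup_le ((Submodule.span_singleton_le_iff_mem ..).2 he) hM) (fun v hv => ?_) fun v hv hv' => ?_
  · rw [h.add, map_add]
    linear_combination B (c • f) x * B (c • f) y * h.two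
  · obtain ⟨_, ⟨a, rfl⟩, w, hw, rfl⟩ := by
      simpa only [Submodule.mem_span_singleton] using Submodule.mem_sup.1 hv
    exact h2 a w hw
  · obtain ⟨a, b, w, hw, rfl⟩ := h1 v hv fun w hw => hv' w (Submodule.mem_sup_right hw)
    obtain rfl : b = 0 := by
      simpa [h.alt, hef, h.symm e w, he' w hw] using
        hv' e (Submodule.mem_sup_left (Submodule.mem_span_singleton_self e))
    simpa using h2 a w hw

/-- The sign of a block. -/
def Blk.sgn : Blk → ℤ
  | cyc _ β => if β then -1 else 1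
  | pair _ β => if β then -1 else 1

omit [Finite F] [FiniteDimensional F V] in
theorem Nil.map_pow_le_perp {n i j : ℕ} (hU : Nil t n U) (h : St B Q t) (hij : n < i + j) {v : V}
    (hv : v ∈ U) : (t ^ j) v ∈ perp B (U.map (t ^ i)) := by
  rintro _ ⟨w, -, rfl⟩
  exact h.zero_of_lt (hU.zero v hv) hij w

omit [Finite F] [FiniteDimensional F V] in
theorem Fr.exists_pow' {E : Type*} [AddCommGroup E] [Module F E] {φ : E →ₗ[F] V} {n i j : ℕ}
    (hU : Fr B t n φ U) (h : St B Q t) (hij : i + j = n + 1) {v : V} (hv : v ∈ U)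
    (h0 : v ∈ perp B (U.map (t ^ i))) : ∃ e, ∃ w ∈ U, v = (t ^ j) (φ e) + (t ^ (j + 1)) w := by
  obtain ⟨u, hu, rfl⟩ := hU.exists_pow h hij hv fun w hw => h.isRefl _ _ (h0 _ ⟨w, hw, rfl⟩)
  obtain ⟨e, w, hw, rfl⟩ := hU.gen u hu
  exact ⟨e, w, hw, by rw [map_add, pow_t]⟩

theorem IsBlk.gs_pos (h : St B Q t) (hα : chi α = -1) {b : Blk} (hb : IsBlk α B Q t b U) :
    0 < b.sgn * gs Q U := by
  have hU := hb.nil h
  have k1 : ∀ i, U.map (t ^ i) ≤ U := fun i => by rintro _ ⟨w, hw, rfl⟩; exact hU.pow_mem i hw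
  have k2 : ∀ i, b.top + 1 < 2 * i → ∀ v ∈ U.map (t ^ i), Q v = 0 := fun i hi => by
    rintro _ ⟨w, hw, rfl⟩; exact h.Q_zero (hU.zero w hw) hi
  obtain ⟨k, β⟩ | ⟨m, β⟩ := b
  · obtain ⟨x, rfl, h1, h2⟩ := hb
    have hF := h.fr_one h1 (by simp [h2])
    convert gs_sign h (k1 (k + 2)) (k2 _ (by simp [Blk.top]; omega)) (pow_mem_gen k x)
      (pow_mem_gen (k + 1) x) (hF.map_pow_le_perp h (by omega) (mem_gen x))
      (hF.map_pow_le_perp h (by omega) (mem_gen x))
      (by rw [h.symm, ← h.Q_succ, h2, if_pos rfl]) fun v hv hv' => ?_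
    · cases β <;> simp [Blk.sgn, h2, hα, chi_zero]
    · obtain ⟨a, w, hw, rfl⟩ := hF.exists_pow' h (j := k) (by omega) hv hv'
      obtain ⟨b, z, hz, rfl⟩ := hF.gen w hw
      exact ⟨a, b, _, ⟨z, hz, rfl⟩, by simp [pow_t, add_assoc]⟩
  obtain ⟨h0, x, y, rfl, h1, h2, h3, h4, h5⟩ := hb
  have k3 := h.top_self h1 fun j hj => by rw [h3, if_neg fun e => by omega]
  have k4 := h.top_self h2 fun j hj => by rw [h4, if_neg fun e => by omega]
  have hF := h.fr_two h1 h2 k3 k4 (by simp [h5])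
  have hx : x ∈ gen t x ⊔ gen t y := Submodule.mem_sup_left (mem_gen x)
  have hy : y ∈ gen t x ⊔ gen t y := Submodule.mem_sup_right (mem_gen y)
  obtain ⟨k, rfl | rfl⟩ := m.even_or_odd'
  · convert gs_sign h (k1 (k + 1)) (k2 _ (by simp [Blk.top]; omega)) (hU.pow_mem k hx)
      (hU.pow_mem k hy) (hF.map_pow_le_perp h (by omega) hx) (hF.map_pow_le_perp h (by omega) hy)
      (by rw [h.top_of_eq h2 (two_mul k).symm, h5, if_pos rfl]) fun v hv hv' => ?_
    · cases β <;> simp [Blk.sgn, h3, h4, hα, chi_zero]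
    · obtain ⟨a, w, hw, rfl⟩ := hF.exists_pow' h (j := k) (by omega) hv hv'
      exact ⟨a.1, a.2, _, ⟨w, hw, rfl⟩, by simp⟩
  · obtain rfl : β = false := by simpa using h0
    have k5 : ∀ v ∈ (gen t x ⊔ gen t y).map (t ^ (k + 1)), Q v = 0 := by
      rintro _ ⟨w, hw, rfl⟩
      obtain ⟨a, z, hz, rfl⟩ := hF.gen w hw
      rw [h.Q_add_t (hF.zero z hz) (by omega)]
      simp [h.add, h.smul, h3, h4, h.zero_of_lt h2 (show 2 * k + 1 < k + 1 + (k + 1) by omega)]
    simpa [Blk.sgn] using Char2.gs_pos h.two h.add (k1 _) k5 fun v hv hv' => k5 v (by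
      obtain ⟨u, hu, rfl⟩ := hF.exists_pow h (j := k + 1) (by omega) hv fun w hw =>
        h.isRefl _ _ (hv' _ ⟨w, hw, rfl⟩)
      exact ⟨u, hu, rfl⟩)

theorem Dec.gs_pos (h : St B Q t) (hα : chi α = -1) {s : Multiset Blk} (hP : Dec α B Q t P s) :
    0 < (s.map Blk.sgn).prod * gs Q P := by
  induction hP with
  | nil => simpa using Char2.gs_pos h.two h.add le_rfl (by simp [h.zero]) (by simp [h.zero])
  | cons h1 h2 _ ih =>
    rw [gs_sup h (Submodule.disjoint_def.2 fun v hv hv' => h1.nondeg h hv (h2 hv')) h2,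
      Multiset.map_cons, Multiset.prod_cons, mul_mul_mul_comm]
    exact mul_pos (h1.gs_pos h hα) ih

end Cfsg.Agent.Class.Char2
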