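import Cfsg.Agent.Class.Char2.Block

/-!
# Decompositions into blocks of the same types give isometric structures
-/

set_option autoImplicit false

namespace Cfsg.Agent.Class.Char2

open Module
open Cfsg.Agent.Class.Wall (prodB prodB_apply)

variable {F V V' : Type*} [Field F] [AddCommGroup V] [Module F V] [AddCommGroup V'] [Module F V']
  {B : LinearMap.BilinForm F V} {Q : V → F} {t : End F V} {n : ℕ} {U P : Submodule F V}
  {B' : LinearMap.BilinForm F V'} {Q' : V' → F} {t' : End F V'} {U' P' : Submodule F V'} {α : F}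

theorem St.prod (h : St B Q t) (h' : St B' Q' t') :
    St (prodB B B') (fun x => Q x.1 + Q' x.2) (t.prodMap t') :=
  ⟨h.two, fun x y => by simp only [Prod.fst_add, Prod.snd_add, h.add, h'.add, prodB_apply]; ring,
    fun c x => by simp only [Prod.smul_fst, Prod.smul_snd, h.smul, h'.smul, mul_add],
    fun x => by simp [h.inv, h'.inv]⟩

theorem St.gen_le_perp (h : St B Q t) {z w : V} (hz : (t ^ (n + 1)) z = 0)
    (h0 : ∀ j, B ((t ^ j) z) w = 0) : gen t w ≤ perp B (gen t z) :=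
  gen_le (fun _ => h.perp_mem (nil_gen hz)) (mem_perp_gen.2 h0)

theorem St.gen_le_perp_self (h : St B Q t) {z : V} (hz : (t ^ (n + 1)) z = 0)
    (h0 : ∀ j, Q ((t ^ (j + 1)) z) = 0) : gen t z ≤ perp B (gen t z) := by
  have key : ∀ d, (∀ j, B ((t ^ (j + d)) z) ((t ^ j) z) = 0) ∧
      ∀ j, B ((t ^ (j + (d + 1))) z) ((t ^ j) z) = 0 := fun d => by
    induction d with
    | zero => exact ⟨fun j => h.alt _, fun j => (h.Q_succ j z).symm.trans (h0 j)⟩
    | succ d ih =>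
      refine ⟨ih.2, fun j => ?_⟩
      have h1 := ih.1 (j + 1)
      have h2 := ih.2 (j + 1)
      rw [add_right_comm] at h1 h2
      rw [← add_assoc, ← t_pow, h.inv₂, t_pow, t_pow, ← add_assoc, h1, add_assoc j d, h2, add_zero]
  exact h.gen_le_perp hz fun j => by simpa using (key j).1 0

theorem St.Q_eq_zero_of_sup (h : St B Q t) (h0 : P ≤ perp B U) (h1 : ∀ v ∈ U, Q v = 0)
    (h2 : ∀ v ∈ P, Q v = 0) : ∀ v ∈ U ⊔ P, Q v = 0 := fun _ hv => by
  obtain ⟨a, ha, b, hb, rfl⟩ := Submodule.mem_sup.1 hv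
  rw [h.add, h1 a ha, h2 b hb, h0 hb a ha, add_zero, add_zero]

theorem St.Q_eq_zero_of_gen (h : St B Q t) {z : V} (hz : (t ^ (n + 1)) z = 0)
    (h0 : ∀ j, Q ((t ^ j) z) = 0) : ∀ v ∈ gen t z, Q v = 0 := fun v hv => by
  induction hv using Submodule.span_induction with
  | mem v hv => exact hv.elim fun j e => e ▸ h0 j
  | zero => exact h.zero
  | add a b ha hb ha' hb' =>
    rw [h.add, ha', hb', h.gen_le_perp_self hz (fun _ => h0 _) hb a ha, add_zero, add_zero]
  | smul a b _ hb => rw [h.smul, hb, mul_zero]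

theorem St.sup_le_perp (h : St B Q t) (h0 : P ≤ perp B U) (h1 : U ≤ perp B U) (h2 : P ≤ perp B P) :
    U ⊔ P ≤ perp B (U ⊔ P) := fun _ hv _ hw => by
  obtain ⟨a, ha, b, hb, rfl⟩ := Submodule.mem_sup.1 hv
  obtain ⟨c, hc, d, hd, rfl⟩ := Submodule.mem_sup.1 hw
  simp only [map_add, LinearMap.add_apply, h1 ha c hc, h0 hb c hc, h2 hb d hd, h.symm d a, h0 hd a ha,
    add_zero]

/-- `P` and `P'` are the projections of an invariant totally isotropic subspace. -/
def Rel (p : Bool) (B : LinearMap.BilinForm F V) (Q : V → F) (t : End F V)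
    (B' : LinearMap.BilinForm F V') (Q' : V' → F) (t' : End F V') (P : Submodule F V)
    (P' : Submodule F V') : Prop :=
  ∃ S : Submodule F (V × V'), S.map (LinearMap.fst F V V') = P ∧ S.map (LinearMap.snd F V V') = P' ∧
    (∀ a ∈ S, t.prodMap t' a ∈ S) ∧ S ≤ perp (prodB B B') S ∧ (p → ∀ a ∈ S, Q a.1 + Q' a.2 = 0)

/-- Forgetting the lowest bit unless `p`. -/
def Blk.nrm (p : Bool) : Blk → Blk
  | cyc k β => cyc k (β && (p || k ≠ 0))
  | pair m β => pair m (β && (p || m ≠ 0))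

variable {p : Bool}

theorem prodMap_pow (j : ℕ) (x : V) (x' : V') :
    (t.prodMap t' ^ j : End F (V × V')) (x, x') = ((t ^ j) x, (t' ^ j) x') := by
  induction j with
  | zero => rfl
  | succ j ih => rw [← t_pow, ih, ← t_pow, ← t_pow]; rfl

theorem IsBlk.rel (h : St B Q t) (h' : St B' Q' t') {b b' : Blk} (hb : IsBlk α B Q t b U)
    (hb' : IsBlk α B' Q' t' b' U') (e : b.nrm p = b'.nrm p) : Rel p B Q t B' Q' t' U U' := by
  have k := h.prod h'
  have h2 : ∀ a : F, a + a = 0 := fun a => by linear_combination a * h.two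
  have m1 := map_gen (t := t.prodMap t') (LinearMap.fst F V V') fun _ => rfl
  have m2 := map_gen (t := t.prodMap t') (LinearMap.snd F V V') fun _ => rfl
  obtain ⟨j, β⟩ | ⟨j, β⟩ := b <;> obtain ⟨j', β'⟩ | ⟨j', β'⟩ := b' <;>
    simp only [Blk.nrm, reduceCtorEq, Blk.cyc.injEq, Blk.pair.injEq] at e <;> obtain ⟨rfl, e⟩ := e
  · obtain ⟨x, rfl, h1, h3⟩ := hb
    obtain ⟨x', rfl, h1', h3'⟩ := hb'
    have z1 : (t.prodMap t' ^ (2 * j + 1 + 1) : End F (V × V')) (x, x') = 0 := by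
      rw [prodMap_pow, h1, h1']; rfl
    have z2 : ∀ i, p ∨ i ≠ 0 → Q ((t ^ i) x) + Q' ((t' ^ i) x') = 0 := fun i hi => by
      rw [h3, h3']
      rcases eq_or_ne i j with rfl | hj
      · rw [show β = β' by rcases hi with hi | hi <;> simpa [hi] using e, h2]
      · simp [hj, h2]
    exact ⟨gen _ (x, x'), m1 _, m2 _, t_mem_gen _, k.gen_le_perp_self z1 fun i => by
      simpa only [prodMap_pow] using z2 _ (Or.inr i.succ_ne_zero), fun hp =>
      k.Q_eq_zero_of_gen z1 fun i => by simpa only [prodMap_pow] using z2 i (Or.inl hp)⟩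
  · obtain ⟨-, x, y, rfl, h1, h3, h4, h5, h6⟩ := hb
    obtain ⟨-, x', y', rfl, h1', h3', h4', h5', h6'⟩ := hb'
    have z1 : (t.prodMap t' ^ (j + 1) : End F (V × V')) (x, x') = 0 := by
      rw [prodMap_pow, h1, h1']; rfl
    have w1 : (t.prodMap t' ^ (j + 1) : End F (V × V')) (y, y') = 0 := by
      rw [prodMap_pow, h3, h3']; rfl
    have z2 : ∀ i (a : F), p ∨ i ≠ 0 → (if 2 * i = j ∧ β then a else 0) +
        (if 2 * i = j ∧ β' then a else 0) = 0 := fun i a hi => by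
      rcases eq_or_ne (2 * i) j with rfl | hj
      · rw [show β = β' by rcases hi with hi | hi <;> simpa [hi] using e, h2]
      · simp [hj]
    have z3 := k.gen_le_perp z1 (w := (y, y')) fun i => by simp [prodMap_pow, h6, h6', h2]
    refine ⟨gen _ (x, x') ⊔ gen _ (y, y'), by rw [Submodule.map_sup, m1, m1]; rfl,
      by rw [Submodule.map_sup, m2, m2]; rfl, ((nil_gen z1).sup (nil_gen w1)).mem, k.sup_le_perp z3
        (k.gen_le_perp_self z1 fun i => ?_) (k.gen_le_perp_self w1 fun i => ?_), fun hp =>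
      k.Q_eq_zero_of_sup z3 (k.Q_eq_zero_of_gen z1 fun i => ?_) (k.Q_eq_zero_of_gen w1 fun i => ?_)⟩ <;>
    simp only [prodMap_pow, h4, h4', h5, h5']
    exacts [z2 _ _ (Or.inr i.succ_ne_zero), z2 _ _ (Or.inr i.succ_ne_zero), z2 _ _ (Or.inl hp),
      z2 _ _ (Or.inl hp)]

theorem Rel.sup (h : St B Q t) (h' : St B' Q' t') (h1 : Rel p B Q t B' Q' t' U U')
    (h2 : Rel p B Q t B' Q' t' P P') (h3 : P ≤ perp B U) (h4 : P' ≤ perp B' U') :
    Rel p B Q t B' Q' t' (U ⊔ P) (U' ⊔ P') := by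
  obtain ⟨S, rfl, rfl, a1, a2, a3⟩ := h1
  obtain ⟨T, rfl, rfl, b1, b2, b3⟩ := h2
  have k : T ≤ perp (prodB B B') S := fun v hv w hw => by
    rw [prodB_apply]
    exact (congrArg₂ _ (h3 ⟨v, hv, rfl⟩ _ ⟨w, hw, rfl⟩) (h4 ⟨v, hv, rfl⟩ _ ⟨w, hw, rfl⟩)).trans
      (add_zero 0)
  refine ⟨S ⊔ T, Submodule.map_sup .., Submodule.map_sup .., fun a ha => ?_,
    (h.prod h').sup_le_perp k a2 b2, fun hp => (h.prod h').Q_eq_zero_of_sup k (a3 hp) (b3 hp)⟩
  obtain ⟨c, hc, b, hb, rfl⟩ := Submodule.mem_sup.1 ha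
  exact map_add (t.prodMap t') c b ▸ Submodule.add_mem_sup (a1 c hc) (b1 b hb)

theorem Dec.rel (h : St B Q t) (h' : St B' Q' t') {s s' : Multiset Blk} (hP : Dec α B Q t P s)
    (hP' : Dec α B' Q' t' P' s') (e : s.map (Blk.nrm p) = s'.map (Blk.nrm p)) :
    Rel p B Q t B' Q' t' P P' := by
  induction hP generalizing P' s' with
  | nil =>
    obtain rfl : s' = 0 := by simpa using e.symm
    generalize hs : (0 : Multiset Blk) = s at hP'
    cases hP' with
    | nil => exact ⟨⊥, by simp, by simp, by simp, bot_le, by simp [h.zero, h'.zero]⟩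
    | cons => exact absurd hs.symm Multiset.cons_ne_zero
  | @cons b U P s h1 h2 _ ih =>
    obtain ⟨b', h3, h4⟩ := Multiset.mem_map.1 (e ▸ Multiset.mem_map_of_mem _ (Multiset.mem_cons_self b s))
    obtain ⟨U', P', k1, k2, k3, rfl⟩ := hP'.inv h' h3
    rw [← Multiset.cons_erase h3, Multiset.map_cons, Multiset.map_cons, h4,
      Multiset.cons_inj_right] at e
    exact (h1.rel h h' k1 h4.symm).sup h h' (ih k3 e) h2 k2

theorem Rel.exists_equiv (h : St B Q t) (h1 : Rel p B Q t B' Q' t' ⊤ ⊤)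
    (hB : ∀ x, (∀ y, B y x = 0) → x = 0) (hB' : ∀ x, (∀ y, B' y x = 0) → x = 0) :
    ∃ e : V ≃ₗ[F] V', (∀ u v, B' (e u) (e v) = B u v) ∧ (p → ∀ u, Q' (e u) = Q u) ∧
      ∀ v, e (t v) = t' (e v) := by
  obtain ⟨S, a1, a2, a3, a4, a5⟩ := h1
  have b1 : Function.Surjective ((LinearMap.fst F V V').domRestrict S) :=
    LinearMap.range_eq_top.1 (by rw [LinearMap.range_domRestrict, a1])
  have b2 : Function.Surjective ((LinearMap.snd F V V').domRestrict S) :=
    LinearMap.range_eq_top.1 (by rw [LinearMap.range_domRestrict, a2])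
  have k : ∀ a b : S, B' a.1.2 b.1.2 = B a.1.1 b.1.1 := fun a b => by
    have : B a.1.1 b.1.1 + B' a.1.2 b.1.2 = 0 := a4 b.2 a a.2
    linear_combination this - B a.1.1 b.1.1 * h.two
  let e1 := LinearEquiv.ofBijective _ ⟨(injective_iff_map_eq_zero _).2 fun a (ha : a.1.1 = 0) =>
    Subtype.ext (Prod.ext ha (hB' _ fun y => by
      obtain ⟨b, rfl⟩ := b2 y
      exact (k b a).trans (by rw [ha, map_zero]))), b1⟩
  let e2 := LinearEquiv.ofBijective _ ⟨(injective_iff_map_eq_zero _).2 fun a (ha : a.1.2 = 0) =>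
    Subtype.ext (Prod.ext (hB _ fun y => by
      obtain ⟨b, rfl⟩ := b1 y
      exact (k b a).symm.trans (by rw [ha, map_zero])) ha), b2⟩
  have he : ∀ a : S, (e1.symm.trans e2) a.1.1 = a.1.2 := fun a =>
    congrArg e2 (e1.symm_apply_apply a)
  refine ⟨e1.symm.trans e2, fun u v => ?_, fun hp u => ?_, fun v => ?_⟩
  · obtain ⟨a, rfl⟩ := b1 u
    obtain ⟨b, rfl⟩ := b1 v
    exact (congrArg₂ (B' · ·) (he a) (he b)).trans (k a b)
  · obtain ⟨a, rfl⟩ := b1 u
    refine (congrArg Q' (he a)).trans (show _ = Q a.1.1 from ?_)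
    linear_combination a5 hp a a.2 - Q a.1.1 * h.two
  · obtain ⟨a, rfl⟩ := b1 v
    exact (he ⟨_, a3 a a.2⟩).trans (congrArg t' (he a).symm)

end Cfsg.Agent.Class.Char2
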