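import Cfsg.Agent.Class.Char2.Num
import Cfsg.Agent.Class.Char2.Decomp
import Cfsg.Agent.Class.Char2.Uniq
import Cfsg.Agent.Class.Char2.Gauss

/-!
# Counting the codes of classes in characteristic two
-/

set_option autoImplicit false

namespace Cfsg.Agent.Class.Char2

open Polynomial Finset
open Cfsg.Agent.KSG (IsPP)
open Cfsg.Agent.Class.Wall (dual)
open Cfsg.Agent.Class.FG

variable {F : Type*} [Field F]

/-- Elementary divisors of an isometry without eigenvalue one. -/
structure NoOne (u : Multiset F[X]) : Prop where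
  pp : ∀ b ∈ u, IsPP b
  nX : ∀ b ∈ u, ¬ X ∣ b
  n1 : ∀ b ∈ u, ¬ X - C 1 ∣ b
  dual : u.map (dual (RingHom.id F)) = u

theorem NoOne.not_dvd {u : Multiset F[X]} (h : NoOne u) {i : ℕ} (hi : i ≠ 0) : ¬ X - C 1 ∣ lev u i :=
  fun e => by
    obtain ⟨p, hp, h1⟩ := (prime_X_sub_C 1).exists_mem_multiset_dvd e
    exact h.n1 _ (mem_levM h.pp hp).2.2 (h1.trans (dvd_pow_self p hi))

theorem card_le_shape [Finite F] (h2 : (2 : F) = 0) {Y Z : Type*} [Fintype Z] (S : Finset Y)
    (u : Y → Multiset F[X]) (a : Y → ℕ → ℕ) (σ : Y → Z) (w : Z → ℕ) {n N : ℕ} (hN : 2 * n ≤ N)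
    (hu : ∀ x ∈ S, NoOne (u x)) (hd : ∀ x ∈ S, ((u x).map natDegree).sum +
      2 * (∑ i ∈ range N, (i + 1) * a x i + w (σ x)) = 2 * n)
    (hi : ∀ x ∈ S, ∀ y ∈ S, u x = u y → (∀ i < N, a x i = a y i) → σ x = σ y → x = y) :
    (S.card : ℝ) ≤ 3.463 * Nat.card F ^ n * ∑ z, (1 / 2) ^ w z := by
  classical
  have hq : 2 ≤ Nat.card F := Finite.one_lt_card
  have hq' : (2 : ℝ) ≤ Nat.card F := by exact_mod_cast hq
  have h1 : (-1 : F) = 1 := by linear_combination -h2
  rw [card_eq_sum_card_fiberwise (f := σ) (t := univ) (by simp), Nat.cast_sum, mul_sum]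
  refine sum_le_sum fun z _ => ?_
  rcases (S.filter fun x => σ x = z).eq_empty_or_nonempty with e | ⟨x₀, hx₀⟩
  · rw [e, card_empty, Nat.cast_zero]
    positivity
  have h3 : w z ≤ n := by
    have := hd x₀ (mem_filter.1 hx₀).1
    rw [(mem_filter.1 hx₀).2] at this
    omega
  have h4 : ∀ x ∈ S, ∀ i, dual (RingHom.id F) (lev (u x) i) = lev (u x) i := fun x hx =>
    dual_lev (fun _ => rfl) (hu x hx).pp (hu x hx).nX (hu x hx).dual
  have h5 := fun x hx i => coeff_zero_eq_one_of_dual (h4 x hx (i + 1)) ((hu x hx).not_dvd i.succ_ne_zero)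
  have h6 : ∀ x ∈ S, ∀ i k, (lev (u x) (i + 1) * (X - C 1) ^ (2 * k)).natDegree =
      (lev (u x) (i + 1)).natDegree + 2 * k ∧ (lev (u x) (i + 1)).natDegree % 2 = 0 := fun x hx i k =>
    ⟨by rw [(monic_lev (hu x hx).pp _).natDegree_mul ((monic_X_sub_C _).pow _), natDegree_pow,
      natDegree_X_sub_C, mul_one], Nat.even_iff.1 (even_natDegree_of_dual (h5 x hx i) (h4 x hx _)
        (by rw [h1]; exact (hu x hx).not_dvd i.succ_ne_zero))⟩
  have h7 : ∀ x ∈ S, ((u x).map natDegree).sum ≤ N := fun x hx => by have := hd x hx; omega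
  refine (Nat.cast_le.2 ((card_le_W (N := N) (n := n - w z) (fun f => f.natDegree / 2)
    (fun _ e => (monFin F (2 * e)).filter fun f => dual (RingHom.id F) f = f ∧ f.coeff 0 = 1) _
    (fun x i => lev (u x) (i + 1) * (X - C 1) ^ (2 * a x i)) (fun x hx y hy e => ?_) (fun x hx => ?_)
    fun x hx i => ?_).trans (W_mono (fun _ e => ?_) N _))).trans ((W_pow_le hq N _).trans ?_)
  · obtain ⟨hx, hx'⟩ := mem_filter.1 hx
    obtain ⟨hy, hy'⟩ := mem_filter.1 hy
    have k : ∀ i : Fin N, a x i = a y i := fun i => by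
      have := congrArg (rootMultiplicity 1) (congrFun e i)
      rw [rootMultiplicity_mul_X_sub_C_pow (monic_lev (hu x hx).pp _).ne_zero,
        rootMultiplicity_mul_X_sub_C_pow (monic_lev (hu y hy).pp _).ne_zero,
        rootMultiplicity_eq_zero (mt dvd_iff_isRoot.2 ((hu x hx).not_dvd (Nat.succ_ne_zero _))),
        rootMultiplicity_eq_zero (mt dvd_iff_isRoot.2 ((hu y hy).not_dvd (Nat.succ_ne_zero _)))] at this
      omega
    refine hi x hx y hy (lev_inj (hu x hx).pp (hu y hy).pp (h7 x hx) (h7 y hy) fun i => ?_)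
      (fun i hi => k ⟨i, hi⟩) (hx'.trans hy'.symm)
    have := congrFun e i
    dsimp only at this
    rwa [k, mul_left_inj' (pow_ne_zero _ (X_sub_C_ne_zero _))] at this
  · obtain ⟨hx, hx'⟩ := mem_filter.1 hx
    have k := hd x hx
    rw [hx', ← sum_natDegree_lev (hu x hx).pp (h7 x hx), ← Fin.sum_univ_eq_sum_range
      (fun i => (i + 1) * a x i), mul_add, ← add_assoc, mul_sum, ← sum_add_distrib] at k
    refine Nat.eq_of_mul_eq_mul_left two_pos ?_
    rw [Nat.mul_sub, ← k, Nat.add_sub_cancel, mul_sum]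
    refine sum_congr rfl fun i _ => ?_
    obtain ⟨k1, k2⟩ := h6 x hx i (a x i)
    rw [k1, mul_left_comm, mul_left_comm 2, ← mul_add]
    congr 1
    omega
  · replace hx := (mem_filter.1 hx).1
    obtain ⟨k1, k2⟩ := h6 x hx i (a x i)
    refine mem_filter.2 ⟨mem_monFin.2 ⟨(monic_lev (hu x hx).pp _).mul ((monic_X_sub_C _).pow _),
      by omega⟩, ?_, ?_⟩
    · rw [Wall.dual_mul, Wall.dual_pow, h4 x hx, Wall.dual_X_sub_C_of_norm (by simp)]
    · rw [mul_coeff_zero, h5 x hx]
      simp [coeff_zero_eq_eval_zero]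
  · rw [card_filter_monFin, card_pal]
  · rw [mul_assoc, pow_sub₀ _ (by positivity) h3, ← inv_pow, one_div]
    gcongr

/-- The number of cyclic blocks. -/
def cy (s : Multiset Blk) (k : ℕ) : ℕ := s.count (.cyc k false) + s.count (.cyc k true)

/-- The number of pair blocks. -/
def pr (s : Multiset Blk) (m : ℕ) : ℕ := s.count (.pair m false) + s.count (.pair m true)

/-- The bits. -/
def bt (s : Multiset Blk) (k : ℕ) : ℕ := s.count (.cyc k true) + s.count (.pair (2 * k) true)

theorem sum_wt_eq {s : Multiset Blk} {N : ℕ} (h : (s.map Blk.wt).sum ≤ N) :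
    (s.map Blk.wt).sum = ∑ i ∈ range N, (i + 1) * (cy s i + pr s i) := by
  induction s using Multiset.induction_on with
  | empty => simp [cy, pr]
  | cons b s ih =>
    rw [Multiset.map_cons, Multiset.sum_cons] at h ⊢
    rw [ih (by omega)]
    obtain ⟨k, _ | _⟩ | ⟨k, _ | _⟩ := b <;> simp only [Blk.wt] at h <;>
      simp [Blk.wt, cy, pr, Multiset.count_cons, mul_add, sum_add_distrib, show k < N by omega] <;> ring

theorem eq_zero_of_le {s : Multiset Blk} {N : ℕ} (h : (s.map Blk.wt).sum ≤ N) {i : ℕ} (hi : N ≤ i) :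
    cy s i = 0 ∧ pr s i = 0 := by
  have : ∀ b : Blk, b.wt = i + 1 → s.count b = 0 := fun b hb => Multiset.count_eq_zero.2 fun e => by
    have := Multiset.le_sum_of_mem (Multiset.mem_map_of_mem Blk.wt e)
    omega
  simp only [cy, pr]
  rw [this _ rfl, this _ rfl, this _ rfl, this _ rfl]
  exact ⟨rfl, rfl⟩

/-- The shape. -/
def shp (s : Multiset Blk) (b : ℕ → ℕ) (j : ℕ) : Fin 4 := Fin.ofNat 4 (3 * b (j + 1) + cy s j)

/-- The marks. -/
def mrk (s : Multiset Blk) (b : ℕ → ℕ) (m : ℕ) : ℕ :=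
  if m % 2 = 0 ∧ cy s (m / 2) = 0 then b (m / 2) else 0

theorem sum_mrk (s : Multiset Blk) (b : ℕ → ℕ) (L : ℕ) : ∑ m ∈ range (2 * L), (m + 1) * mrk s b m =
    ∑ j ∈ range L, if cy s j = 0 then b j * (2 * j + 1) else 0 := by
  induction L with
  | zero => simp
  | succ L ih =>
    rw [mul_add, sum_range_succ, sum_range_succ, ih, sum_range_succ]
    simp [mrk, mul_comm]

theorem Valid.shp {s : Multiset Blk} (hs : Valid s) {b : ℕ → ℕ} (hb : ∀ k, b k ≤ bt s k) (j : ℕ) :
    b (j + 1) = shp s b j / 3 ∧ cy s j = shp s b j % 3 := by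
  have : b (j + 1) = 0 ∧ cy s j ≤ 2 ∨ b (j + 1) = 1 ∧ cy s j = 0 := by
    have := hs j
    have := hs (j + 1)
    have := hb (j + 1)
    simp only [cy, bt] at *
    omega
  simp only [Char2.shp, Fin.val_ofNat]
  omega

theorem Valid.mrk_le {s : Multiset Blk} {b : ℕ → ℕ} (hb : ∀ k, b k ≤ bt s k) (m : ℕ) :
    mrk s b m ≤ s.count (.pair m true) := by
  unfold mrk
  split_ifs with h
  · have := hb (m / 2)
    simp only [cy, bt, show 2 * (m / 2) = m by omega] at *
    omega
  · exact Nat.zero_le _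

theorem Valid.sum_wt {s : Multiset Blk} (hs : Valid s) {b : ℕ → ℕ} (hb : ∀ k, b k ≤ bt s k)
    (h0 : b 0 = 0) {L : ℕ} (h : (s.map Blk.wt).sum ≤ L) : (s.map Blk.wt).sum =
      ∑ i ∈ range (2 * L), (i + 1) * (pr s i - mrk s b i) + wS 0 0 fun i : Fin L => Char2.shp s b i := by
  have h1 := wS_eq (Char2.shp s b) b (fun j => (hs.shp hb j).1) L 0
  have h2 : b L = 0 := by
    have := hb L
    have := eq_zero_of_le h le_rfl
    have := eq_zero_of_le h (i := 2 * L) (by omega)
    simp only [cy, bt, pr] at *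
    omega
  simp only [zero_add, h0, ← (hs.shp hb _).2, h2, zero_mul, add_zero, sum_add_distrib, ← sum_mrk] at h1
  rw [h1, sum_wt_eq (N := 2 * L) (by omega), add_left_comm, ← sum_add_distrib]
  simp only [mul_add, sum_add_distrib]
  rw [← sum_subset (range_mono (show L ≤ 2 * L by omega)) fun i _ hi => by
    rw [(eq_zero_of_le h (by simpa using hi)).1, mul_zero]]
  refine congrArg _ ((sum_congr rfl fun i _ => ?_).trans sum_add_distrib)
  rw [← mul_add, Nat.sub_add_cancel (show _ ≤ pr s i from (Valid.mrk_le hb i).trans (Nat.le_add_left _ _))]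

theorem count_map_nrm (s : Multiset Blk) (b : Blk) : (s.map (Blk.nrm false)).count b =
    if b = .cyc 0 false then cy s 0 else if b = .pair 0 false then pr s 0 else
      if b = .cyc 0 true ∨ b = .pair 0 true then 0 else s.count b := by
  induction s using Multiset.induction_on with
  | empty => simp [cy, pr]
  | cons c s ih =>
    rw [Multiset.map_cons, Multiset.count_cons, ih]
    obtain ⟨_ | k, _ | _⟩ | ⟨_ | k, _ | _⟩ := c <;> simp only [Blk.nrm, cy, pr, Multiset.count_cons] <;>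
      split_ifs <;> simp_all <;> omega

variable {s s' : Multiset Blk}

theorem Valid.count_eq (hs : Valid s) (hs' : Valid s') (h1 : ∀ k, cy s k = cy s' k)
    (h2 : ∀ k, pr s k = pr s' k) (b : Blk) (h3 : ∀ k β, b = .cyc k β ∨ b = .pair (2 * k) β →
      bt s k = bt s' k) : s.count b = s'.count b := by
  obtain ⟨k, β⟩ | ⟨m, β⟩ := b
  · have := hs k
    have := hs' k
    have := h1 k
    have := h2 (2 * k)
    have := h3 k β (Or.inl rfl)
    simp only [cy, pr, bt] at *
    cases β <;> omega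
  · have := h2 m
    obtain ⟨k, rfl | rfl⟩ := m.even_or_odd' <;> have := hs k <;> have := hs' k
    · have := h3 k β (Or.inr rfl)
      simp only [cy, pr, bt] at *
      cases β <;> omega
    · simp only [cy, pr, bt] at *
      cases β <;> omega

theorem prod_sgn_eq (h0 : ∀ k, s.count (.pair (2 * k + 1) true) = 0) {L : ℕ}
    (h : (s.map Blk.wt).sum ≤ L) : (s.map Blk.sgn).prod = ∏ k ∈ range L, (-1) ^ bt s k := by
  induction s using Multiset.induction_on with
  | empty => simp [bt]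
  | cons b s ih =>
    rw [Multiset.map_cons, Multiset.sum_cons] at h
    simp only [Multiset.count_cons, Nat.add_eq_zero_iff] at h0
    rw [Multiset.map_cons, Multiset.prod_cons, ih (fun k => (h0 k).1) (by omega)]
    obtain ⟨k, _ | _⟩ | ⟨k, _ | _⟩ := b <;> simp only [Blk.wt] at h
    · simp [Blk.sgn, bt]
    · simp [Blk.sgn, bt, Multiset.count_cons, pow_add, prod_mul_distrib, -mul_ite, -ite_mul,
        show k < L by omega]
    · simp [Blk.sgn, bt]
    · obtain ⟨k, rfl | rfl⟩ := k.even_or_odd'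
      · simp [Blk.sgn, bt, Multiset.count_cons, pow_add, prod_mul_distrib, -mul_ite, -ite_mul,
          show k < L by omega]
      · simpa using (h0 k).2

theorem Valid.bt_eq (hs : Valid s) (hs' : Valid s') (j : ℕ) (h1 : ∀ k ≠ j, bt s k = bt s' k)
    (h2 : (s.map Blk.sgn).prod = (s'.map Blk.sgn).prod) : bt s j = bt s' j := by
  obtain ⟨L, k1, k2, k3⟩ : ∃ L, (s.map Blk.wt).sum ≤ L ∧ (s'.map Blk.wt).sum ≤ L ∧ j ∈ range L :=
    ⟨(s.map Blk.wt).sum + (s'.map Blk.wt).sum + j + 1, by omega, by omega, mem_range.2 (by omega)⟩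
  rw [prod_sgn_eq (fun k => (hs k).2.2.2.2) k1, prod_sgn_eq (fun k => (hs' k).2.2.2.2) k2,
    ← mul_prod_erase _ _ k3, ← mul_prod_erase _ _ k3, prod_congr rfl fun k hk => by
      rw [h1 k (mem_erase.1 hk).1], mul_left_inj' (prod_ne_zero_iff.2 (by simp))] at h2
  have h3 : bt s j ≤ 1 := (hs j).2.1
  have h4 : bt s' j ≤ 1 := (hs' j).2.1
  generalize bt s j = a, bt s' j = b at *
  interval_cases a <;> interval_cases b <;> simp_all

theorem Valid.eq_of_shp (hs : Valid s) (hs' : Valid s') {b b' : ℕ → ℕ} (hb : ∀ k, b k ≤ bt s k)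
    (hb' : ∀ k, b' k ≤ bt s' k) (h0 : b 0 = b' 0) {L : ℕ} (h : (s.map Blk.wt).sum ≤ L)
    (h' : (s'.map Blk.wt).sum ≤ L) (e : ∀ i : Fin L, Char2.shp s b i = Char2.shp s' b' i) :
    (∀ k, cy s k = cy s' k) ∧ b = b' ∧ mrk s b = mrk s' b' := by
  have h1 : ∀ k, cy s k = cy s' k ∧ b (k + 1) = b' (k + 1) := fun k => by
    by_cases hk : k < L
    · rw [(hs.shp hb k).1, (hs.shp hb k).2, (hs'.shp hb' k).1, (hs'.shp hb' k).2, e ⟨k, hk⟩]
      exact ⟨rfl, rfl⟩
    · have := hb (k + 1)
      have := hb' (k + 1)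
      have := eq_zero_of_le h (i := k) (by omega)
      have := eq_zero_of_le h' (i := k) (by omega)
      have := eq_zero_of_le h (i := k + 1) (by omega)
      have := eq_zero_of_le h' (i := k + 1) (by omega)
      have := eq_zero_of_le h (i := 2 * (k + 1)) (by omega)
      have := eq_zero_of_le h' (i := 2 * (k + 1)) (by omega)
      simp only [cy, pr, bt] at *
      omega
  obtain rfl : b = b' := funext fun k => by cases k; exacts [h0, (h1 _).2]
  exact ⟨fun k => (h1 k).1, rfl, funext fun m => by simp only [mrk, (h1 _).1]⟩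

variable [Finite F] (h2 : (2 : F) = 0) {Y : Type*} (S : Finset Y) (u : Y → Multiset F[X])
  (s : Y → Multiset Blk) {n : ℕ} (hu : ∀ x ∈ S, NoOne (u x)) (hs : ∀ x ∈ S, Valid (s x))
  (hd : ∀ x ∈ S, ((u x).map natDegree).sum + 2 * ((s x).map Blk.wt).sum = 2 * n)
include h2 hu hs hd

theorem card_le_sp (hi : ∀ x ∈ S, ∀ y ∈ S, u x = u y →
    (s x).map (Blk.nrm false) = (s y).map (Blk.nrm false) → x = y) :
    5 * S.card ≤ 76 * Nat.card F ^ n := by
  let b := fun x k => if k = 0 then 0 else bt (s x) k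
  have hb : ∀ x k, b x k ≤ bt (s x) k := fun x k => by unfold b; split_ifs <;> simp
  have h3 : ∀ x ∈ S, ((s x).map Blk.wt).sum ≤ n := fun x hx => by have := hd x hx; omega
  have := card_le_shape h2 S u (fun x i => pr (s x) i - mrk (s x) (b x) i)
    (fun x (i : Fin n) => shp (s x) (b x) i) (wS 0 0) le_rfl hu
    (fun x hx => by rw [← (hs x hx).sum_wt (hb x) rfl (h3 x hx), hd x hx]) fun x hx y hy e1 e2 e3 => ?_
  · rw [← Nat.cast_le (α := ℝ)]
    push_cast
    nlinarith [sum_wS_le n, pow_nonneg (Nat.cast_nonneg (α := ℝ) (Nat.card F)) n]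
  obtain ⟨k1, k2, k3⟩ := (hs x hx).eq_of_shp (hs y hy) (hb x) (hb y) rfl (h3 x hx) (h3 y hy)
    (congrFun e3)
  have k4 : ∀ i, pr (s x) i = pr (s y) i := fun i => by
    by_cases h : i < 2 * n
    · have := e2 i h
      have := Valid.mrk_le (hb x) i
      have := Valid.mrk_le (hb y) i
      simp only [k3, pr] at *
      omega
    · rw [(eq_zero_of_le (h3 x hx) (by omega)).2, (eq_zero_of_le (h3 y hy) (by omega)).2]
  refine hi x hx y hy e1 (Multiset.ext.2 fun c => ?_)
  rw [count_map_nrm, count_map_nrm, k1, k4]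
  refine ite_congr rfl (fun _ => rfl) fun l1 => ite_congr rfl (fun _ => rfl) fun l2 =>
    ite_congr rfl (fun _ => rfl) fun l3 => (hs x hx).count_eq (hs y hy) k1 k4 c fun k β hk => ?_
  have : k ≠ 0 := by rintro rfl; cases β <;> tauto
  simpa [b, this] using congrFun k2 k

theorem card_le_orth (hi : ∀ x ∈ S, ∀ y ∈ S, u x = u y → s x = s y → x = y)
    (hp : ∀ x ∈ S, ∀ y ∈ S, u x = u y → ((s x).map Blk.sgn).prod = ((s y).map Blk.sgn).prod) :
    S.card ≤ 15 * Nat.card F ^ n := by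
  let b := fun x k => if k = 0 ∨ (k = 1 ∧ cy (s x) 0 = 0 ∧ pr (s x) 0 = 0) then 0 else bt (s x) k
  have hb : ∀ x k, b x k ≤ bt (s x) k := fun x k => by unfold b; split_ifs <;> simp
  have h3 : ∀ x ∈ S, ((s x).map Blk.wt).sum ≤ n + 1 := fun x hx => by have := hd x hx; omega
  have h4 : ∀ x ∈ S, ∀ i, mrk (s x) (b x) i + (if i = 0 then b x 1 else 0) ≤ pr (s x) i := fun x hx i => by
    split_ifs with h
    · have := hs x hx 0
      have := hs x hx 1
      simp only [h, mrk, b, cy, pr, bt, Nat.zero_div, true_or, if_true, ite_self, one_ne_zero, false_or,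
        true_and, zero_add] at *
      split_ifs <;> omega
    · exact (Valid.mrk_le (hb x) i).trans (Nat.le_add_left _ _)
  have := card_le_shape h2 S u
    (fun x i => pr (s x) i - mrk (s x) (b x) i - if i = 0 then b x 1 else 0)
    (fun x (i : Fin (n + 1)) => shp (s x) (b x) i) (fun σ => wS 0 0 σ + σ 0 / 3) (N := 2 * (n + 1))
    (n := n)    (by omega) hu (fun x hx => ?_) fun x hx y hy e1 e2 e3 => ?_
  · rw [← Nat.cast_le (α := ℝ)]
    push_cast
    nlinarith [sum_wS_le' n, pow_nonneg (Nat.cast_nonneg (α := ℝ) (Nat.card F)) n]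
  · rw [← hd x hx, (hs x hx).sum_wt (hb x) rfl (h3 x hx), mul_add_one 2, sum_range_succ' _ (_ + 1),
      sum_range_succ' _ (_ + 1)]
    have := h4 x hx 0
    have := ((hs x hx).shp (hb x) 0).1
    simp only [Nat.add_eq_zero_iff, one_ne_zero, and_false, if_false, if_true, Nat.sub_zero,
      zero_add, Fin.val_zero] at *
    omega
  obtain ⟨k1, k2, k3⟩ := (hs x hx).eq_of_shp (hs y hy) (hb x) (hb y) rfl (h3 x hx) (h3 y hy)
    (congrFun e3)
  have k4 : ∀ i, pr (s x) i = pr (s y) i := fun i => by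
    by_cases h : i < 2 * (n + 1)
    · have := e2 i h
      have := h4 x hx i
      have := h4 y hy i
      rw [k3, k2] at *
      omega
    · rw [(eq_zero_of_le (h3 x hx) (by omega)).2, (eq_zero_of_le (h3 y hy) (by omega)).2]
  refine hi x hx y hy e1 (Multiset.ext.2 fun c => (hs x hx).count_eq (hs y hy) k1 k4 c fun k _ _ => ?_)
  have k5 := fun j h => (hs x hx).bt_eq (hs y hy) j h (hp x hx y hy e1)
  have k6 : ∀ j, (∀ k ≠ j, bt (s x) k = bt (s y) k) → bt (s x) k = bt (s y) k := fun j h =>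
    (eq_or_ne k j).elim (fun e => e ▸ k5 j h) (h k)
  by_cases h : cy (s y) 0 = 0 ∧ pr (s y) 0 = 0
  · refine k6 1 fun k hk => ?_
    rcases eq_or_ne k 0 with rfl | hk'
    · have := k1 0
      have := k4 0
      simp only [cy, pr, bt, mul_zero] at *
      omega
    · simpa [b, hk, hk'] using congrFun k2 k
  · exact k6 0 fun k hk => by simpa [b, hk, k1, k4, h] using congrFun k2 k

end Cfsg.Agent.Class.Char2
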