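import Cfsg.Agent.Class.Char2.Code
import Cfsg.Agent.Class.FG.Grp
import Cfsg.Agent.Class.Wall.OrthReal

/-!
# Upper bounds for the class numbers of symplectic and orthogonal groups in characteristic two
-/

set_option autoImplicit false

namespace Cfsg.Agent.Class.Char2

open Module Polynomial
open Cfsg.Agent.KSG (elemDiv)
open Cfsg.Agent.Class.Wall

variable {F V V' : Type*} [Field F] [AddCommGroup V] [Module F V] [AddCommGroup V'] [Module F V']
  {B : LinearMap.BilinForm F V} {Q : V → F} {g : End F V}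
  {B' : LinearMap.BilinForm F V'} {Q' : V' → F} {g' : End F V'} {α : F} {k : ℕ}

/-- Non-degenerate quadratic spaces. -/
abbrev OF (B : LinearMap.BilinForm F V) (Q : V → F) : Prop :=
  IsFormed (RingHom.id F) B Q 1 (AddMonoidHom.id F)

theorem OF.st (h : OF B Q) (h2 : (2 : F) = 0) (hg : Pres B Q g) : St B Q (g - 1) := by
  have h0 : St B Q 0 := ⟨h2, h.add, h.smul, fun x => by simpa using h.smul 0 0⟩
  refine ⟨h2, h.add, h.smul, fun x => ?_⟩
  have := h.add ((g - 1) x) x
  rw [LinearMap.sub_apply, End.one_apply, sub_add_cancel, hg.map_Q, AddMonoidHom.id_apply] at this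
  linear_combination -this - B (g x - x) x * h2

/-- Every symplectic transformation preserves a quadratic form. -/
theorem OF.exists_pres [Finite F] (h : OF B Q) (h2 : (2 : F) = 0)
    (hg : ∀ x y, B (g x) (g y) = B x y) : ∃ Q₁, OF B Q₁ ∧ Pres B Q₁ g := by
  have h0 : St B Q 0 := ⟨h2, h.add, h.smul, fun x => by simpa using h.smul 0 0⟩
  choose r hr using fun x => Symm2.exists_sq_eq h2 (Q (g x) + Q x)
  let φ : Dual F V :=
    { toFun := r
      map_add' := fun x y => Symm2.eq_of_sq_eq h2 (by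
        rw [hr, add_sq, hr, hr, map_add, h0.add, h0.add, hg]
        linear_combination (B x y - r x * r y) * h2)
      map_smul' := fun c x => Symm2.eq_of_sq_eq h2 (by
        rw [hr, RingHom.id_apply, smul_eq_mul, mul_pow, hr, map_smul, h0.smul, h0.smul]
        ring) }
  obtain ⟨l, hl⟩ : φ ∈ LinearMap.range (g - 1).dualMap := by
    rw [LinearMap.range_dualMap_eq_dualAnnihilator_ker, Submodule.mem_dualAnnihilator]
    intro x hx
    refine pow_eq_zero_iff two_ne_zero |>.1 ((hr x).trans ?_)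
    rw [show g x = x from sub_eq_zero.1 hx]
    linear_combination Q x * h2
  refine ⟨fun x => Q x + l x ^ 2, ⟨h.invol, h.symm, fun x y => ?_, fun c x => ?_,
    fun x y _ => by rw [h0.alt, h0.alt], fun x => ⟨_, rfl⟩, h.nondeg⟩, hg, fun x => ?_⟩
  · rw [h.add, map_add]
    linear_combination l x * l y * h2
  · rw [h.smul, map_smul, RingHom.id_apply, smul_eq_mul]
    ring
  · have : l (g x) - l x = r x := (map_sub l _ _).symm.trans (LinearMap.congr_fun hl x)
    linear_combination (l (g x) + l x + r x) * this - hr x + (l x * r x + r x ^ 2 - Q x) * h2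

/-- The elementary divisors of the non-unipotent part. -/
noncomputable def nu [FiniteDimensional F V] (g : End F V) (k : ℕ) : Multiset F[X] :=
  elemDiv (g.restrict (mem_range_aeval g ((X - C (1 : F)) ^ k)))

variable [Finite F] [FiniteDimensional F V] [FiniteDimensional F V']

theorem OF.exists_code (h : OF B Q) (h2 : (2 : F) = 0) (hg : Pres B Q g)
    (hα : ∀ c, ∃ d, c + d * d + d = 0 ∨ c + d * d + d = α) (hk : finrank F V ≤ k) :
    NoOne (nu g k) ∧ ∃ s, Dec α B Q (g - 1) (LinearMap.ker (aeval g ((X - C (1 : F)) ^ k))) s ∧ Valid s ∧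
      ((nu g k).map natDegree).sum + 2 * (s.map Blk.wt).sum = finrank F V := by
  have hf := fit_pow_finrank g (X - C (1 : F)) hk
  have h1 := h.restrict (hg.inf_perp_range h (by simp) hf)
  refine ⟨⟨fun _ => KSG.isPP_of_mem_elemDiv, (KSG.isUnit_iff_elemDiv _).1 ((hg.restrict _).isUnit h1.nd),
    fun b hb e => ?_, h1.nd.map_dual_elemDiv (hg.restrict _).map_B⟩, ?_⟩
  · rcases k.eq_zero_or_pos with rfl | h0
    · exact (KSG.isPP_of_mem_elemDiv hb).natDegree_pos.not_ge ((Multiset.le_sum_of_mem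
        (Multiset.mem_map_of_mem _ hb)).trans ((KSG.finrank_eq_sum_elemDiv _).symm.trans_le
          ((Submodule.finrank_le _).trans hk)))
    · exact not_isUnit_X_sub_C 1 (((KSG.isUnit_aeval_iff_elemDiv _ _).1 hf.isUnit_restrict b
        hb).isUnit_of_dvd' (dvd_pow_self _ h0.ne') e)
  obtain ⟨s, h3, h4⟩ := (h.st h2 hg).exists_dec hα (n := k)
    (P := LinearMap.ker (aeval g ((X - C (1 : F)) ^ k))) ⟨fun v hv => sub_mem (mem_ker_aeval g _ v hv) hv,
      fun v hv => KSG.pow_apply_eq_zero_of_le k.le_succ (by simpa using hv)⟩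
    fun v hv hv' => (hg.inf_perp_ker h (by simp) hf).le ⟨hv, hv'⟩
  exact ⟨s, h3, h4, by rw [← h3.finrank_eq (h.st h2 hg), nu, ← KSG.finrank_eq_sum_elemDiv,
    LinearMap.finrank_range_add_finrank_ker]⟩

theorem OF.isoSim_range (h : OF B Q) (h' : OF B' Q') (h2 : (2 : F) = 0) (hg : Pres B Q g)
    (hg' : Pres B' Q' g') (hk : finrank F V ≤ k + 1) (hk' : finrank F V' ≤ k + 1)
    (e : nu g (k + 1) = nu g' (k + 1)) :
    IsoSim (resB B _) (fun w => Q w) (g.restrict (mem_range_aeval g ((X - C (1 : F)) ^ (k + 1))))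
      (resB B' _) (fun w => Q' w) (g'.restrict (mem_range_aeval g' ((X - C (1 : F)) ^ (k + 1)))) := by
  have hf := fit_pow_finrank g (X - C (1 : F)) hk
  have h1 := (isUnit_pow_iff one_ne_zero).2 ((isUnit_pow_iff k.succ_ne_zero).1
    (Eq.subst (map_pow _ _ _) hf.isUnit_restrict))
  rw [← map_pow] at h1
  exact (h.restrict (hg.inf_perp_range h (by simp) hf)).isoSim_of_isUnit (h'.restrict
    (hg'.inf_perp_range h' (by simp) (fit_pow_finrank g' _ hk'))) (hg.restrict _) (hg'.restrict _)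
    (KSG.sim_of_elemDiv_eq e) (isUnit_sq_sub_one h1 (by
      rwa [show (-1 : F) = 1 by linear_combination -h2]))

omit [Finite F] in
theorem OF.range_sup_ker (h : OF B Q) (hg : Pres B Q g) (hk : finrank F V ≤ k) :
    Disjoint (LinearMap.range (aeval g ((X - C (1 : F)) ^ k))) (LinearMap.ker (aeval g ((X - C (1 : F)) ^ k))) ∧
    LinearMap.ker (aeval g ((X - C (1 : F)) ^ k)) ≤ perp B (LinearMap.range (aeval g ((X - C (1 : F)) ^ k))) ∧
    LinearMap.range (aeval g ((X - C (1 : F)) ^ k)) ⊔ LinearMap.ker (aeval g ((X - C (1 : F)) ^ k)) = ⊤ := by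
  have h1 := h.isCompl_perp (hg.inf_perp_range h (by simp) (fit_pow_finrank g (X - C (1 : F)) hk))
  have h3 := h.herm.perp_range_sub_pow hg.map_B (c := 1) (by simp) k
  rw [h3] at h1
  exact ⟨h1.disjoint, h3.ge, h1.sup_eq_top⟩

theorem OF.exists_equiv (h : OF B Q) (h' : OF B' Q') (h2 : (2 : F) = 0) (hg : Pres B Q g)
    (hg' : Pres B' Q' g') (hk : finrank F V ≤ k + 1) (hk' : finrank F V' ≤ k + 1)
    (e : nu g (k + 1) = nu g' (k + 1)) {s s' : Multiset Blk}
    (hs : Dec α B Q (g - 1) (LinearMap.ker (aeval g ((X - C (1 : F)) ^ (k + 1)))) s)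
    (hs' : Dec α B' Q' (g' - 1) (LinearMap.ker (aeval g' ((X - C (1 : F)) ^ (k + 1)))) s') {p : Bool}
    (e' : s.map (Blk.nrm p) = s'.map (Blk.nrm p)) : ∃ e : V ≃ₗ[F] V',
      (∀ u v, B' (e u) (e v) = B u v) ∧ (p → ∀ u, Q' (e u) = Q u) ∧ ∀ v, e (g v) = g' (e v) := by
  obtain ⟨f, f1, f2, f3⟩ := h.isoSim_range h' h2 hg hg' hk hk' e
  have h1 := Rel.sup (h.st h2 hg) (h'.st h2 hg') ⟨LinearMap.range ((Submodule.subtype _).prod
    (Submodule.subtype _ ∘ₗ f.toLinearMap)), ?_, ?_, ?_, ?_, ?_⟩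
    (hs.rel (h.st h2 hg) (h'.st h2 hg') hs' e') (h.range_sup_ker hg hk).2.1
    (h'.range_sup_ker hg' hk').2.1
  · rw [(h.range_sup_ker hg hk).2.2, (h'.range_sup_ker hg' hk').2.2] at h1
    obtain ⟨e, e1, e2, e3⟩ := h1.exists_equiv (h.st h2 hg) h.nondeg_right h'.nondeg_right
    exact ⟨e, e1, e2, fun v => by simpa using e3 v⟩
  · rw [← LinearMap.range_comp, LinearMap.fst_prod, Submodule.range_subtype]
  · rw [← LinearMap.range_comp, LinearMap.snd_prod, LinearMap.range_comp_of_range_eq_top _ f.range,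
      Submodule.range_subtype]
  · rintro _ ⟨v, rfl⟩
    exact ⟨g.restrict (mem_range_aeval g _) v - v, Prod.ext rfl (by simp [f3])⟩
  · rintro _ ⟨v, rfl⟩ _ ⟨w, rfl⟩
    have : B' (f w) (f v) = B w v := f1 w v
    change B w v + B' (f w) (f v) = 0
    linear_combination this + B w v * h2
  · rintro - _ ⟨v, rfl⟩
    have : Q' (f v) = Q v := f2 v
    change Q v + Q' (f v) = 0
    linear_combination this + Q v * h2

theorem prod_sgn (s : Multiset Blk) : (s.map Blk.sgn).prod = 1 ∨ (s.map Blk.sgn).prod = -1 := by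
  induction s using Multiset.induction_on with
  | empty => simp
  | cons b s ih => obtain ⟨_, _ | _⟩ | ⟨_, _ | _⟩ := b <;> simp [Blk.sgn] <;> omega

theorem OF.prod_sgn_eq {g' : End F V} (h : OF B Q) (h2 : (2 : F) = 0) (hg : Pres B Q g)
    (hg' : Pres B Q g') (hα : chi α = -1) (hk : finrank F V ≤ k + 1)
    (e : nu g (k + 1) = nu g' (k + 1)) {s s' : Multiset Blk}
    (hs : Dec α B Q (g - 1) (LinearMap.ker (aeval g ((X - C (1 : F)) ^ (k + 1)))) s)
    (hs' : Dec α B Q (g' - 1) (LinearMap.ker (aeval g' ((X - C (1 : F)) ^ (k + 1)))) s') :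
    (s.map Blk.sgn).prod = (s'.map Blk.sgn).prod := by
  obtain ⟨f, -, f2, -⟩ := h.isoSim_range h h2 hg hg' hk hk e
  obtain ⟨a1, a2, a3⟩ := h.range_sup_ker hg hk
  obtain ⟨b1, b2, b3⟩ := h.range_sup_ker hg' hk
  have h1 := gs_sup (h.st h2 hg) a1 a2
  rw [a3, ← b3, gs_sup (h.st h2 hg) b1 b2, ← gs_congr f.toEquiv f2, mul_right_inj'
    (gs_ne_zero (h.st h2 hg) fun v hv hv' => Submodule.disjoint_def.1 a1 v hv
      ((h.herm.perp_range_sub_pow hg.map_B (by simp) _).le hv'))] at h1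
  have h3 := hs.gs_pos (h.st h2 hg) hα
  have h4 := hs'.gs_pos (h.st h2 hg') hα
  rw [h1] at h4
  rcases prod_sgn s with e | e <;> rcases prod_sgn s' with e' | e' <;> rw [e] at h3 ⊢ <;>
    rw [e'] at h4 ⊢ <;> omega

theorem card_conjClasses_Sp_le (h2 : (2 : F) = 0) (n : ℕ) :
    5 * Nat.card (ConjClasses (Matrix.symplecticGroup (Fin n) F)) ≤ 76 * Nat.card F ^ n := by
  have := Fintype.ofFinite (ConjClasses (Matrix.symplecticGroup (Fin n) F))
  obtain ⟨α, -, hα⟩ := exists_alpha h2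
  have h0 : OF (sympB n F) (Orth.plusQF n F) := by
    convert isFormed_of_quadratic _ ((Orth.nd_iff _).1 (Orth.nd_plusQF n F))
    refine LinearMap.ext₂ fun x y => ?_
    rw [sympB_apply, Sp.form_eq, QuadraticMap.polarBilin_apply_apply, Orth.polar_plusQF]
    exact Finset.sum_congr rfl fun i _ => by linear_combination -x (.inl i) * y (.inr i) * h2
  choose Q h1 h3 using fun A : Matrix.symplecticGroup (Fin n) F =>
    h0.exists_pres h2 (g := Matrix.toLin' A.1) (Sp.form_smul_smul A)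
  have hk : finrank F (Fin n ⊕ Fin n → F) ≤ 2 * n + 1 := by simp [two_mul]
  choose h4 s h5 h6 h7 using fun A => (h1 A).exists_code h2 (h3 A) hα hk
  rw [Nat.card_eq_fintype_card, ← Finset.card_univ]
  refine card_le_sp h2 _ _ (fun C => s (Quotient.out C)) (fun _ _ => h4 _) (fun _ _ => h6 _)
    (fun _ _ => (h7 _).trans (by simp [two_mul])) fun C _ D _ e e' => FG.eq_of_isConj_out ?_
  obtain ⟨f, f1, -, f2⟩ := (h1 _).exists_equiv (h1 _) h2 (h3 _) (h3 _) hk hk e (h5 _) (h5 _) e'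
  exact Sp_isConj_iff_isoSim.2 ⟨f, f1, fun _ => rfl, f2⟩

theorem card_conjClasses_O_le (h2 : (2 : F) = 0) {ι : Type} [Fintype ι] [DecidableEq ι]
    {Q : QuadraticForm F (ι → F)} (hQ : (QuadraticMap.polarBilin Q).Nondegenerate) {q : (ι → F) → F}
    (h : ∀ v, Q v = q v) {n : ℕ} (hn : Fintype.card ι = 2 * n) :
    Nat.card (ConjClasses (isometryGroup F q)) ≤ 15 * Nat.card F ^ n := by
  have := Fintype.ofFinite (ConjClasses (isometryGroup F q))
  obtain ⟨α, hα', hα⟩ := exists_alpha h2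
  have h0 : OF _ _ := isFormed_of_quadratic Q hQ
  have hk : finrank F (ι → F) ≤ 2 * n + 1 := by simp [hn]
  choose h4 s h5 h6 h7 using fun A => h0.exists_code h2 (O_pres Q h A) hα hk
  rw [Nat.card_eq_fintype_card, ← Finset.card_univ]
  refine card_le_orth h2 _ _ (fun C => s (Quotient.out C)) (fun _ _ => h4 _) (fun _ _ => h6 _)
    (fun _ _ => (h7 _).trans (by simp [hn])) (fun C _ D _ e e' => FG.eq_of_isConj_out ?_)
    fun C _ D _ e => h0.prod_sgn_eq h2 (O_pres Q h _) (O_pres Q h _) hα' hk e (h5 _) (h5 _)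
  obtain ⟨f, f1, f2, f3⟩ := h0.exists_equiv h0 h2 (O_pres Q h _) (O_pres Q h _) hk hk e (h5 _) (h5 _)
    (p := true) (congrArg _ e')
  exact (O_isConj_iff_isoSim Q h).2 ⟨f, f1, f2 rfl, f3⟩

end Cfsg.Agent.Class.Char2
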