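import Cfsg.Agent.Class.FG.RealBound

/-!
# Numerical bounds for class numbers in characteristic two
-/

set_option autoImplicit false

namespace Cfsg.Agent.Class.Char2

open Finset

/-- The weight of a shape. -/
def wS : ∀ {L : ℕ}, ℕ → ℕ → (Fin L → Fin 4) → ℕ
  | 0, k, s, _ => s * (2 * k + 1)
  | _ + 1, k, s, σ => (k + 1) * (σ 0 % 3) + (if (σ 0 : ℕ) % 3 = 0 then s * (2 * k + 1) else 0) +
      wS (k + 1) (σ 0 / 3) (Fin.tail σ)

theorem wS_eq (τ : ℕ → Fin 4) (b : ℕ → ℕ) (hb : ∀ j, b (j + 1) = τ j / 3) (L k : ℕ) :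
    wS k (b k) (fun i : Fin L => τ (k + i)) = ∑ i ∈ range L, ((k + i + 1) * (τ (k + i) % 3) +
      if (τ (k + i) : ℕ) % 3 = 0 then b (k + i) * (2 * (k + i) + 1) else 0) +
      b (k + L) * (2 * (k + L) + 1) := by
  induction L generalizing k with
  | zero => simp [wS]
  | succ L ih =>
    have := ih (k + 1)
    simp only [add_right_comm k 1, add_assoc k] at this
    rw [wS, sum_range_succ', add_comm (∑ i ∈ range L, _), add_assoc _ (∑ i ∈ range L, _)]
    simp only [add_assoc k, ← this, hb]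
    rfl

theorem sum_succ {L : ℕ} (f : (Fin (L + 1) → Fin 4) → ℝ) :
    ∑ σ, f σ = ∑ e, ∑ σ : Fin L → Fin 4, f (Fin.cons e σ) := by
  rw [← Fintype.sum_prod_type', ← (Fin.consEquiv fun _ => Fin 4).sum_comp]
  rfl

/-- The generating function of shapes at `1 / 2`. -/
noncomputable def gS (L k s : ℕ) : ℝ := ∑ σ : Fin L → Fin 4, (1 / 2) ^ wS k s σ

theorem gS_succ (L k s : ℕ) : gS (L + 1) k s =
    ((1 / 2) ^ (s * (2 * k + 1)) + (1 / 2) ^ (k + 1) + (1 / 2) ^ ((k + 1) * 2)) * gS L (k + 1) 0 +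
      (1 / 2) ^ (s * (2 * k + 1)) * gS L (k + 1) 1 := by
  simp [gS, sum_succ, Fin.sum_univ_four, wS, pow_add, ← mul_sum]
  ring

theorem gS_le_tail (L k : ℕ) (hk : 3 ≤ k) :
    gS L k 0 ≤ 1 + 2 * (1 / 2) ^ k ∧ gS L k 1 ≤ 3 / 4 * (1 / 2) ^ k := by
  have h0 : ∀ k, (0 : ℝ) < (1 / 2) ^ k := fun k => by positivity
  have h1 : ((1 : ℝ) / 2) ^ k ≤ 1 / 8 := (pow_le_pow_of_le_one (by norm_num) (by norm_num) hk).trans
    (by norm_num)
  induction L generalizing k with
  | zero =>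
    simp only [gS, wS, univ_unique, sum_singleton, zero_mul, pow_zero, one_mul, pow_succ, two_mul, pow_add]
    constructor <;> nlinarith [h0 k]
  | succ L ih =>
    obtain ⟨h2, h3⟩ := ih (k + 1) (by omega) (by rw [pow_succ]; linarith [h0 k])
    have h4 := h0 k
    simp only [gS_succ, zero_mul, pow_zero, one_mul, mul_two, two_mul k, pow_add, pow_one] at h2 h3 ⊢
    generalize (1 / 2 : ℝ) ^ k = y at *
    constructor
    · refine (add_le_add (mul_le_mul_of_nonneg_left h2 (by positivity)) h3).trans ?_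
      nlinarith [mul_pos h4 h4]
    · refine (add_le_add (mul_le_mul_of_nonneg_left h2 (by positivity))
        (mul_le_mul_of_nonneg_left h3 (by positivity))).trans ?_
      nlinarith [mul_pos h4 h4]

theorem gS_step {k : ℕ} {a b a' b' : ℝ} (h : ∀ L, gS L (k + 1) 0 ≤ a ∧ gS L (k + 1) 1 ≤ b)
    (h1 : (1 + (1 / 2) ^ (k + 1) + (1 / 2) ^ ((k + 1) * 2)) * a + b ≤ a' := by norm_num)
    (h2 : ((1 / 2) ^ (2 * k + 1) + (1 / 2) ^ (k + 1) + (1 / 2) ^ ((k + 1) * 2)) * a +
      (1 / 2) ^ (2 * k + 1) * b ≤ b' := by norm_num) (h3 : 1 ≤ a' := by norm_num)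
    (h4 : (1 / 2) ^ (2 * k + 1) ≤ b' := by norm_num) (L : ℕ) : gS L k 0 ≤ a' ∧ gS L k 1 ≤ b' := by
  obtain _ | L := L
  · simpa [gS, wS] using ⟨h3, by simpa using h4⟩
  · have := h L
    simp only [gS_succ, zero_mul, pow_zero, one_mul]
    exact ⟨le_trans (by gcongr; exacts [this.1, this.2]) h1, le_trans (by gcongr; exacts [this.1, this.2]) h2⟩

theorem gS_one_le : ∀ L, gS L 1 0 ≤ 2.12675 ∧ gS L 1 1 ≤ 0.66512 := by
  have := gS_step (k := 9) (a' := 1.00367) (b' := 0.00099) fun L => gS_le_tail L 10 (by norm_num)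
  have := gS_step (a' := 1.00663) (b' := 0.00198) this
  have := gS_step (a' := 1.01256) (b' := 0.00398) this
  have := gS_step (a' := 1.02452) (b' := 0.0081) this
  have := gS_step (a' := 1.04888) (b' := 0.01677) this
  have := gS_step (a' := 1.09946) (b' := 0.03589) this
  have := gS_step (a' := 1.20837) (b' := 0.08189) this
  have := gS_step (a' := 1.46019) (b' := 0.21025) this
  exact gS_step this

theorem sum_wS_le (L : ℕ) : ∑ σ : Fin L → Fin 4, (1 / 2 : ℝ) ^ wS 0 0 σ ≤ 4.387 :=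
  (gS_step (b' := 3) gS_one_le (L := L)).1

theorem sum_wS_le' (L : ℕ) : ∑ σ : Fin (L + 1) → Fin 4, (1 / 2 : ℝ) ^ (wS 0 0 σ + σ 0 / 3) ≤ 4.1 := by
  have := gS_one_le L
  simp [gS] at this
  simp [sum_succ, Fin.sum_univ_four, wS, pow_add, ← mul_sum, ← sum_mul]
  linarith

theorem W_pow_le {q : ℕ} (hq : 2 ≤ q) (N m : ℕ) :
    (FG.W (fun _ e => q ^ e) N m : ℝ) ≤ 3.463 * q ^ m := by
  have hq' : (2 : ℝ) ≤ q := by exact_mod_cast hq
  have key : ∀ N m, (FG.W (fun _ e => q ^ e) (N + 1) m : ℝ) ≤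
      (∏ i ∈ range N, (1 + 1 * ((1 / 2) ^ (i + 1) / (1 - (1 / 2) ^ (i + 1))))) * q ^ m := fun N => by
    have h0 : ∀ i, (1 / 2 : ℝ) ^ (i + 1) < 1 := fun i => pow_lt_one₀ (by norm_num) (by norm_num) i.succ_ne_zero
    induction N with
    | zero => simp [FG.W_one]
    | succ N ih =>
      intro m
      rw [prod_range_succ]
      refine FG.W_succ_le (by positivity) (prod_nonneg fun i _ => by have := sub_pos.2 (h0 i); positivity)
        ih (fun K => le_trans (sum_le_sum (g := fun e => ((1 / 2 : ℝ) ^ (N + 1)) ^ e) fun e _ => ?_) ?_) m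
      · rw [Nat.cast_pow, ← mul_pow, pow_succ', ← mul_assoc, mul_inv_cancel₀ (by positivity), one_mul,
          one_div]
        gcongr
      · have := geom_sum_Ico_le_of_lt_one (m := 0) (n := K) (by positivity) (h0 N)
        rw [← range_eq_Ico] at this
        refine this.trans_eq ?_
        have := sub_pos.2 (h0 N)
        field_simp
        ring
  refine (Nat.cast_le.2 (FG.W_le_succ (fun _ => pow_zero q) N m)).trans ((key N m).trans ?_)
  gcongr
  exact FG.prod_frac_le zero_le_one (by norm_num) (by norm_num) 8 (by norm_num)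
    (by norm_num [prod_range_succ]) N

end Cfsg.Agent.Class.Char2
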